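import Groth.Agent.Shriek42.FlatBC
import Groth.Agent.DR39.Restrict
import Mathlib.RingTheory.TensorProduct.MvPolynomial

/-!
# Composition and flat base change of upper shrieks on bounded below objects
-/

set_option autoImplicit false
set_option linter.unusedSectionVars false
set_option linter.style.haveILetI false
set_option backward.isDefEq.respectTransparency false

universe u

open CategoryTheory CategoryTheory.Limits
open scoped TensorProduct

namespace Groth.Agent.Shriek42

attribute [local instance] HasDerivedCategory.standard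
attribute [local instance] hasLB
attribute [local instance] MvPolynomial.algebraMvPolynomial

/-- Derived base change commutes with shifts. -/
lemma nonempty_lb_shift {A B : Type u} [CommRing A] [CommRing B] (φ : A →+* B) (X : Dual.D A) (k : ℤ) :
    Nonempty ((DRing.LBaseChange φ).obj (X⟦k⟧) ≅ ((DRing.LBaseChange φ).obj X)⟦k⟧) := by
  let := (lbAdj φ).leftAdjointCommShift ℤ
  exact ⟨((DRing.LBaseChange φ).commShiftIso k).app X⟩

/-- Flat base change preserves vanishing of cohomology. -/
lemma isZero_HF_lb {A B : Type u} [CommRing A] [CommRing B] [Algebra A B] [Module.Flat A B]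
    (X : Dual.D A) (i : ℤ) (h : IsZero ((DR39.HF A i).obj X)) :
    IsZero ((DR39.HF B i).obj ((DRing.LBaseChange (algebraMap A B)).obj X)) := by
  obtain ⟨e⟩ := DR39.lbcIso (A := A) B X
  obtain ⟨e'⟩ := DR39.HF_DF (DR39.extA A B) X i
  exact ((DR39.extA A B).map_isZero h).of_iso ((DR39.HF B i).mapIso e ≪≫ e')

/-- A quotient of a Noetherian ring is pseudo-coherent over it. -/
lemma pc_restrictD_inD {P B : Type u} [CommRing P] [CommRing B] [IsNoetherianRing P] [Algebra P B]
    (h : Function.Surjective (algebraMap P B)) (n : ℤ) :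
    DR39.PC n ((DRing.restrictD (algebraMap P B)).obj (Dual.inD B B)) := by
  haveI : Module.Finite P B := Module.Finite.of_surjective (Algebra.linearMap P B) h
  obtain ⟨e⟩ := DR39.rest_self_iso (A := P) B
  exact (DR39.pc_inD B n).of_iso ((DerivedCategory.singleFunctor (ModuleCat.{u} P) 0).mapIso e.symm ≪≫
    (((ModuleCat.restrictScalars.{u} (algebraMap P B)).mapDerivedCategorySingleFunctor 0).app (ModuleCat.of B B)).symm)

section Comp

variable {A B C : Type u} [CommRing A] [CommRing B] [CommRing C] [IsNoetherianRing A]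
  [Algebra A B] [Algebra B C] [Algebra A C] [IsScalarTower A B C]

/-- Composition of upper shrieks on bounded below objects. -/
theorem shriekVia_comp (n : ℕ) (ψ : MvPolynomial (Fin n) A →ₐ[A] B) (hψ : Function.Surjective ψ)
    (Rψ : Dual.D (MvPolynomial (Fin n) A) ⥤ Dual.D B) (adj : DRing.restrictD ψ.toRingHom ⊣ Rψ)
    (m : ℕ) (χ : MvPolynomial (Fin m) B →ₐ[B] C) (hχ : Function.Surjective χ)
    (Rχ : Dual.D (MvPolynomial (Fin m) B) ⥤ Dual.D C) (adjχ : DRing.restrictD χ.toRingHom ⊣ Rχ)
    (k : ℕ) (θ : MvPolynomial (Fin k) A →ₐ[A] C) (hθ : Function.Surjective θ)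
    (Rθ : Dual.D (MvPolynomial (Fin k) A) ⥤ Dual.D C) (adjθ : DRing.restrictD θ.toRingHom ⊣ Rθ)
    (K : Dual.D A) (c : ℤ) (hK : ∀ i : ℤ, i < c → Subsingleton (Dual.HD A K i)) :
    Nonempty (Dual2.shriekVia k Rθ K ≅ Dual2.shriekVia m Rχ (Dual2.shriekVia n Rψ K)) := by
  let P := MvPolynomial (Fin n) A
  let P' := MvPolynomial (Fin m) P
  let B' := MvPolynomial (Fin m) B
  letI algPB : Algebra P B := ψ.toRingHom.toAlgebra
  haveI : IsScalarTower A P B := IsScalarTower.of_algebraMap_eq fun a => (ψ.commutes a).symm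
  letI algP'B' : Algebra P' B' := MvPolynomial.algebraMvPolynomial
  have hp : (algebraMap P' B' : P' →+* B') = MvPolynomial.map ψ.toRingHom := MvPolynomial.algebraMap_def
  have hmap : Function.Surjective (algebraMap P' B') := by
    rw [hp]; exact MvPolynomial.map_surjective _ hψ
  haveI hpush : Algebra.IsPushout P P' B B' := inferInstance
  haveI : Module.Flat B B' := inferInstance
  let σ : MvPolynomial (Fin (m + n)) A ≃ₐ[A] P' :=
    (MvPolynomial.renameEquiv A finSumFinEquiv.symm).trans (MvPolynomial.sumAlgEquiv A (Fin m) (Fin n))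
  let θ' : MvPolynomial (Fin (m + n)) A →ₐ[A] C :=
    { toRingHom := (χ.toRingHom.comp (algebraMap P' B')).comp σ.toAlgHom.toRingHom
      commutes' := fun a => by
        change χ (algebraMap P' B' (σ (algebraMap A _ a))) = algebraMap A C a
        rw [σ.commutes, hp, IsScalarTower.algebraMap_apply A P P', MvPolynomial.algebraMap_eq,
          MvPolynomial.map_C, ← MvPolynomial.algebraMap_eq, χ.commutes]
        exact (congrArg (algebraMap B C) (ψ.commutes a)).trans (IsScalarTower.algebraMap_apply A B C a).symm }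
  have hθ' : Function.Surjective θ' := (hχ.comp hmap).comp σ.surjective
  let M := (DRing.LBaseChange (algebraMap A P)).obj K
  have hM : ∀ i, i < c → IsZero ((DR39.HF P i).obj M) := fun i hi =>
    isZero_HF_lb K i ((DR39.isZero_HF_iff K i).2 (hK i hi))
  let χ' : P' →+* C := χ.toRingHom.comp (algebraMap P' B')
  obtain ⟨e₁⟩ := shriekVia_independent k θ hθ Rθ adjθ (m + n) θ' hθ' (rightD θ'.toRingHom)
    (rightDAdj θ'.toRingHom) K
  obtain ⟨e₂⟩ := shriek_iso σ.toRingEquiv (iT := algebraMap A (MvPolynomial (Fin (m + n)) A))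
    (iT' := (algebraMap P P').comp (algebraMap A P))
    (RingHom.ext fun a => ((σ.commutes a).trans (IsScalarTower.algebraMap_apply A P P' a)).symm)
    (χ := θ'.toRingHom) (χ' := χ') rfl (rightDAdj θ'.toRingHom) (rightDAdj χ') K
  obtain ⟨e₃⟩ := flat_baseChange (P := P) (P' := P') (B := B) (B' := B') hmap
    (pc_restrictD_inD hψ) adj (rightDAdj (algebraMap P' B')) M c hM
  obtain ⟨e₄⟩ := nonempty_lb_shift (algebraMap B B') (Rψ.obj M) (n : ℤ)
  obtain ⟨e₅⟩ := nonempty_shift_iso adjχ ((DRing.LBaseChange (algebraMap B B')).obj (Rψ.obj M)) (n : ℤ)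
  exact ⟨e₁ ≪≫ (shiftFunctor (Dual.D C) ((m + n : ℕ) : ℤ)).mapIso (e₂ ≪≫
      (rightComp (R' := rightD χ') rfl (rightDAdj (algebraMap P' B')) adjχ (rightDAdj χ')).app _ ≪≫
      Rχ.mapIso ((rightD (algebraMap P' B')).mapIso
        ((lbComp (φ := algebraMap A P) (ψ := algebraMap P P') rfl).app K) ≪≫ e₃.symm)) ≪≫
    (shiftFunctorAdd' (Dual.D C) (n : ℤ) (m : ℤ) _ (by push_cast; ring)).app _ ≪≫
    (shiftFunctor (Dual.D C) (m : ℤ)).mapIso (e₅.symm ≪≫ Rχ.mapIso e₄.symm)⟩

end Comp

section BaseChange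

/-- Flat base change of upper shrieks on bounded below objects. -/
theorem shriekVia_flat_baseChange {R R' A : Type u} [CommRing R] [CommRing R'] [CommRing A]
    [IsNoetherianRing R] [Algebra R R'] [Module.Flat R R'] [Algebra R A]
    (n : ℕ) (ψ : MvPolynomial (Fin n) R →ₐ[R] A) (hψ : Function.Surjective ψ)
    (Rψ : Dual.D (MvPolynomial (Fin n) R) ⥤ Dual.D A) (adj : DRing.restrictD ψ.toRingHom ⊣ Rψ)
    (m : ℕ) (ψ' : MvPolynomial (Fin m) R' →ₐ[R'] (R' ⊗[R] A)) (hψ' : Function.Surjective ψ')
    (Rψ' : Dual.D (MvPolynomial (Fin m) R') ⥤ Dual.D (R' ⊗[R] A))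
    (adj' : DRing.restrictD ψ'.toRingHom ⊣ Rψ')
    (K : Dual.D R) (c : ℤ) (hK : ∀ i : ℤ, i < c → Subsingleton (Dual.HD R K i)) :
    Nonempty ((DRing.LBaseChange (Algebra.TensorProduct.includeRight : A →ₐ[R] R' ⊗[R] A).toRingHom).obj
        (Dual2.shriekVia n Rψ K) ≅ Dual2.shriekVia m Rψ' ((DRing.LBaseChange (algebraMap R R')).obj K)) := by
  let P := MvPolynomial (Fin n) R
  let P' := MvPolynomial (Fin n) R'
  let A' := R' ⊗[R] A
  letI algPA : Algebra P A := ψ.toRingHom.toAlgebra
  haveI : IsScalarTower R P A := IsScalarTower.of_algebraMap_eq fun a => (ψ.commutes a).symm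
  letI algAA' : Algebra A A' := (Algebra.TensorProduct.includeRight : A →ₐ[R] A').toRingHom.toAlgebra
  haveI : IsScalarTower R A A' :=
    IsScalarTower.of_algebraMap_eq fun a => ((Algebra.TensorProduct.includeRight : A →ₐ[R] A').commutes a).symm
  let ψ'' : P' →ₐ[R'] A' :=
    MvPolynomial.aeval fun i => Algebra.TensorProduct.includeRight (ψ (MvPolynomial.X i))
  letI algP'A' : Algebra P' A' := ψ''.toRingHom.toAlgebra
  letI algPA' : Algebra P A' := ((algebraMap A A').comp (algebraMap P A)).toAlgebra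
  haveI : IsScalarTower P A A' := IsScalarTower.of_algebraMap_eq' rfl
  haveI : IsScalarTower R' P' A' := IsScalarTower.of_algebraMap_eq fun a => (ψ''.commutes a).symm
  have hcomm : ψ''.toRingHom.comp (algebraMap P P') = (algebraMap A A').comp ψ.toRingHom := by
    refine MvPolynomial.ringHom_ext (fun r => ?_) (fun i => ?_)
    · change ψ'' (algebraMap P P' (MvPolynomial.C r)) = Algebra.TensorProduct.includeRight (ψ (MvPolynomial.C r))
      rw [MvPolynomial.algebraMap_def, MvPolynomial.map_C, ← MvPolynomial.algebraMap_eq,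
        ← MvPolynomial.algebraMap_eq, ψ''.commutes, ψ.commutes, AlgHom.commutes]
      exact (IsScalarTower.algebraMap_apply R R' A' r).symm
    · change ψ'' (algebraMap P P' (MvPolynomial.X i)) = Algebra.TensorProduct.includeRight (ψ (MvPolynomial.X i))
      rw [MvPolynomial.algebraMap_def, MvPolynomial.map_X]
      exact MvPolynomial.aeval_X _ i
  haveI : IsScalarTower P P' A' :=
    IsScalarTower.of_algebraMap_eq' hcomm.symm
  haveI : IsScalarTower R P' A' := IsScalarTower.of_algebraMap_eq fun r => by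
    rw [IsScalarTower.algebraMap_apply R R' P', ← IsScalarTower.algebraMap_apply R' P' A',
      ← IsScalarTower.algebraMap_apply R R' A']
  have hsurj : Function.Surjective ψ'' := fun z => by
    induction z using TensorProduct.induction_on with
    | zero => exact ⟨0, map_zero _⟩
    | add x y hx hy =>
      obtain ⟨a, rfl⟩ := hx
      obtain ⟨b, rfl⟩ := hy
      exact ⟨a + b, map_add _ _ _⟩
    | tmul r a =>
      obtain ⟨p, rfl⟩ := hψ a
      refine ⟨algebraMap R' P' r * algebraMap P P' p, ?_⟩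
      rw [map_mul, ψ''.commutes, show ψ'' (algebraMap P P' p) = algebraMap A A' (ψ p) from
        RingHom.congr_fun hcomm p]
      change (r ⊗ₜ[R] (1 : A)) * ((1 : R') ⊗ₜ[R] ψ p) = _
      simp
  haveI h1 : Algebra.IsPushout R P R' P' := inferInstance
  haveI h2 : Algebra.IsPushout R A R' A' :=
    Algebra.IsPushout.symm (inferInstance : Algebra.IsPushout R R' A A')
  haveI : Algebra.IsPushout P P' A A' :=
    ((Algebra.IsPushout.comp_iff (R := R) (S := P) (R' := R') (S' := P') (T := A) (T' := A')).1 h2).symm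
  haveI : Module.Flat P P' := flat_of_isPushout R R' P P'
  haveI : Module.Flat A A' := flat_of_isPushout P P' A A'
  let M := (DRing.LBaseChange (algebraMap R P)).obj K
  have hM : ∀ i, i < c → IsZero ((DR39.HF P i).obj M) := fun i hi =>
    isZero_HF_lb K i ((DR39.isZero_HF_iff K i).2 (hK i hi))
  obtain ⟨e₁⟩ := shriekVia_independent m ψ' hψ' Rψ' adj' n ψ'' hsurj (rightD ψ''.toRingHom)
    (rightDAdj ψ''.toRingHom) ((DRing.LBaseChange (algebraMap R R')).obj K)
  obtain ⟨e₂⟩ := flat_baseChange (P := P) (P' := P') (B := A) (B' := A') hsurj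
    (pc_restrictD_inD hψ) adj (rightDAdj (algebraMap P' A')) M c hM
  obtain ⟨e₃⟩ := nonempty_lb_shift (algebraMap A A') (Rψ.obj M) (n : ℤ)
  exact ⟨e₃ ≪≫ (shiftFunctor (Dual.D A') (n : ℤ)).mapIso (e₂ ≪≫ (rightD (algebraMap P' A')).mapIso
    (((lbComp (φ := algebraMap R P) (ψ := algebraMap P P')
        (IsScalarTower.algebraMap_eq R P P')).app K).symm ≪≫
      (lbComp (φ := algebraMap R R') (ψ := algebraMap R' P')
        (IsScalarTower.algebraMap_eq R R' P')).app K)) ≪≫ e₁.symm⟩

end BaseChange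

end Groth.Agent.Shriek42
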