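import Groth.Agent.DR39.Existence
import Groth.Agent.CohDer42.RdAdj
import Groth.Agent.CohDer42.ClassDerived
import Groth.Agent.DerAdj43.Basic
import Groth.Prelude.Def_DDual2
import Mathlib.CategoryTheory.Adjunction.Unique
import Mathlib.CategoryTheory.Triangulated.Adjunction
import Mathlib.Algebra.Category.ModuleCat.AB
import Mathlib.CategoryTheory.Abelian.GrothendieckCategory.Basic

/-!
# Adjunctions between derived base change, restriction and coinduction
-/

set_option autoImplicit false
set_option linter.unusedSectionVars false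
set_option linter.style.haveILetI false
set_option backward.isDefEq.respectTransparency false

universe u v v' u₁ u₂

open CategoryTheory CategoryTheory.Limits

namespace Groth.Agent.Shriek42

attribute [local instance] HasDerivedCategory.standard

section Exact

variable {C : Type u₁} [Category.{v} C] [Abelian C] {D : Type u₂} [Category.{v'} D] [Abelian D]
  {L : C ⥤ D} {R : D ⥤ C} (adj : L ⊣ R) [L.Additive] [R.Additive]
  [PreservesFiniteLimits L] [PreservesFiniteColimits L] [PreservesFiniteLimits R]
  [PreservesFiniteColimits R]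

/-- An adjunction of exact functors on derived categories. -/
noncomputable def exactAdj : L.mapDerivedCategory ⊣ R.mapDerivedCategory :=
  let α := L.mapDerivedCategoryFactorsh
  let β := R.mapDerivedCategoryFactorsh
  let W₁ := HomotopyCategory.quasiIso C (ComplexShape.up ℤ)
  let W₂ := HomotopyCategory.quasiIso D (ComplexShape.up ℤ)
  have : L.mapDerivedCategory.IsLeftDerivedFunctor α.hom W₁ :=
    Functor.isLeftDerivedFunctor_of_inverts W₁ _ α
  have : R.mapDerivedCategory.IsRightDerivedFunctor β.inv W₂ :=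
    Functor.isRightDerivedFunctor_of_inverts W₂ _ β
  have : (L.mapDerivedCategory ⋙ R.mapDerivedCategory).IsLeftDerivedFunctor
      ((Functor.associator _ _ _).inv ≫ Functor.whiskerRight α.hom R.mapDerivedCategory) W₁ :=
    Functor.isLeftDerivedFunctor_of_inverts W₁ _
      ((Functor.associator _ _ _).symm ≪≫ Functor.isoWhiskerRight α _)
  have : (R.mapDerivedCategory ⋙ L.mapDerivedCategory).IsRightDerivedFunctor
      (Functor.whiskerRight β.inv L.mapDerivedCategory ≫ (Functor.associator _ _ _).hom) W₂ :=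
    Functor.isRightDerivedFunctor_of_inverts W₂ _
      ((Functor.associator _ _ _).symm ≪≫ Functor.isoWhiskerRight β L.mapDerivedCategory)
  (Mod48.adjHomotopy adj).derived W₁ W₂ α.hom β.inv

end Exact

variable {A B C : Type u} [CommRing A] [CommRing B] [CommRing C]

section Base

variable (φ : A →+* B) [DRing.HasLBaseChange φ]

/-- The canonical map `LB(Q K) → Q(B ⊗ K)`, natural. -/
noncomputable def lbτ : DerivedCategory.Q ⋙ DRing.LBaseChange φ ⟶
    (ModuleCat.extendScalars.{u, u, u} φ).mapHomologicalComplex (ComplexShape.up ℤ) ⋙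
      DerivedCategory.Q where
  app K := DR39.LFapp (ModuleCat.extendScalars.{u, u, u} φ) K
  naturality _ _ f := DR39.LFapp_naturality (ModuleCat.extendScalars.{u, u, u} φ) f

/-- Derived base change is left adjoint to restriction of scalars. -/
noncomputable def lbAdj : DRing.LBaseChange φ ⊣ DRing.restrictD φ :=
  let W₁ := HomologicalComplex.quasiIso (ModuleCat.{u} A) (ComplexShape.up ℤ)
  let W₂ := HomologicalComplex.quasiIso (ModuleCat.{u} B) (ComplexShape.up ℤ)
  let β := (ModuleCat.restrictScalars.{u} φ).mapDerivedCategoryFactors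
  have hres : ∀ K : CochainComplex (ModuleCat.{u} A) ℤ, ∃ (L : CochainComplex (ModuleCat.{u} A) ℤ)
      (s : L ⟶ K), L.IsKProjective ∧ IsIso (DerivedCategory.Q.map s) := fun K =>
    ⟨DR39.SF.res K, DR39.SF.aug K, DR39.SF.isKProjective_res K,
      (DerivedCategory.isIso_Q_map_iff_quasiIso (ModuleCat.{u} A) _).2 inferInstance⟩
  have hτ : ∀ K : CochainComplex (ModuleCat.{u} A) ℤ, K.IsKProjective → IsIso ((lbτ φ).app K) :=
    fun K hK => by
      haveI := hK
      exact DR39.isIso_LFapp_of_isKProjective (ModuleCat.extendScalars.{u, u, u} φ) K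
  have : (DRing.LBaseChange φ).IsLeftDerivedFunctor (lbτ φ) W₁ :=
    CohDer42.ClassDerived.isLeftDerivedFunctor CochainComplex.IsKProjective _ hres hτ
  have : (DRing.restrictD φ).IsRightDerivedFunctor β.inv W₂ :=
    Functor.isRightDerivedFunctor_of_inverts W₂ _ β
  have : (DRing.LBaseChange φ ⋙ DRing.restrictD φ).IsLeftDerivedFunctor
      ((Functor.associator _ _ _).inv ≫ Functor.whiskerRight (lbτ φ) (DRing.restrictD φ)) W₁ :=
    CohDer42.ClassDerived.isLeftDerivedFunctor CochainComplex.IsKProjective _ hres fun K hK => by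
      have := hτ K hK
      simp only [NatTrans.comp_app, Functor.associator_inv_app, Functor.whiskerRight_app]
      infer_instance
  have : (DRing.restrictD φ ⋙ DRing.LBaseChange φ).IsRightDerivedFunctor
      (Functor.whiskerRight β.inv (DRing.LBaseChange φ) ≫ (Functor.associator _ _ _).hom) W₂ :=
    Functor.isRightDerivedFunctor_of_inverts W₂ _
      ((Functor.associator _ _ _).symm ≪≫ Functor.isoWhiskerRight β _)
  (DerAdj43.complexAdj (ModuleCat.extendRestrictScalarsAdj.{u, u, u} φ) (ComplexShape.up ℤ)).derived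
    W₁ W₂ (lbτ φ) β.inv

end Base

section Restrict

/-- Restriction along a composite. -/
noncomputable def restrictCompIso {φ : A →+* B} {ψ : B →+* C} {χ : A →+* C} (h : χ = ψ.comp φ) :
    DRing.restrictD χ ≅ DRing.restrictD ψ ⋙ DRing.restrictD φ :=
  Localization.liftNatIso DerivedCategory.Q (HomologicalComplex.quasiIso _ (ComplexShape.up ℤ))
    ((ModuleCat.restrictScalars.{u} χ).mapHomologicalComplex (ComplexShape.up ℤ) ⋙ DerivedCategory.Q)
    (((ModuleCat.restrictScalars.{u} ψ).mapHomologicalComplex (ComplexShape.up ℤ) ⋙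
      (ModuleCat.restrictScalars.{u} φ).mapHomologicalComplex (ComplexShape.up ℤ)) ⋙ DerivedCategory.Q)
    (h₁ := ⟨(ModuleCat.restrictScalars.{u} χ).mapDerivedCategoryFactors⟩)
    (h₂ := ⟨(Functor.associator _ _ _).symm ≪≫
      Functor.isoWhiskerRight (ModuleCat.restrictScalars.{u} ψ).mapDerivedCategoryFactors _ ≪≫
      Functor.associator _ _ _ ≪≫
      Functor.isoWhiskerLeft _ (ModuleCat.restrictScalars.{u} φ).mapDerivedCategoryFactors ≪≫
      (Functor.associator _ _ _).symm⟩) _ _
    (Functor.isoWhiskerRight (NatIso.ofComponents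
      (fun K => HomologicalComplex.Hom.isoOfComponents
        (fun i => (ModuleCat.restrictScalarsComp'.{u} φ ψ χ h).app (K.X i))
        (fun i j _ => ((ModuleCat.restrictScalarsComp'.{u} φ ψ χ h).hom.naturality (K.d i j)).symm))
      (by intros; ext i : 1; exact ((ModuleCat.restrictScalarsComp'.{u} φ ψ χ h).hom.naturality _))) _)

/-- Restriction along the identity. -/
noncomputable def restrictIdIso {χ : A →+* A} (h : χ = RingHom.id A) :
    DRing.restrictD χ ≅ 𝟭 (Dual.D A) :=
  Localization.liftNatIso DerivedCategory.Q (HomologicalComplex.quasiIso _ (ComplexShape.up ℤ))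
    ((ModuleCat.restrictScalars.{u} χ).mapHomologicalComplex (ComplexShape.up ℤ) ⋙ DerivedCategory.Q)
    ((𝟭 (CochainComplex (ModuleCat.{u} A) ℤ)) ⋙ DerivedCategory.Q)
    (h₁ := ⟨(ModuleCat.restrictScalars.{u} χ).mapDerivedCategoryFactors⟩)
    (h₂ := ⟨Functor.rightUnitor _ ≪≫ (Functor.leftUnitor _).symm⟩) _ _
    (Functor.isoWhiskerRight (NatIso.ofComponents
      (fun K => HomologicalComplex.Hom.isoOfComponents
        (fun i => (ModuleCat.restrictScalarsId'.{u} χ h).app (K.X i))
        (fun i j _ => ((ModuleCat.restrictScalarsId'.{u} χ h).hom.naturality (K.d i j)).symm))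
      (by intros; ext i : 1; exact ((ModuleCat.restrictScalarsId'.{u} χ h).hom.naturality _))) _)

/-- Restriction along mutually inverse ring maps. -/
noncomputable def restrictEquiv {φ : A →+* B} {ψ : B →+* A} (h₁ : ψ.comp φ = RingHom.id A)
    (h₂ : φ.comp ψ = RingHom.id B) : Dual.D B ≌ Dual.D A :=
  CategoryTheory.Equivalence.mk (DRing.restrictD φ) (DRing.restrictD ψ)
    ((restrictCompIso (φ := ψ) (ψ := φ) rfl).symm ≪≫ restrictIdIso h₂).symm
    ((restrictCompIso (φ := φ) (ψ := ψ) rfl).symm ≪≫ restrictIdIso h₁)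

end Restrict

section Right

variable (φ : A →+* B)

instance additive_coextendScalars : (ModuleCat.coextendScalars.{u, u, u} φ).Additive :=
  (ModuleCat.restrictCoextendScalarsAdj.{u, u, u} φ).right_adjoint_additive

/-- A right adjoint of restriction of scalars. -/
noncomputable def rightD : Dual.D A ⥤ Dual.D B :=
  CohDer42.RdAdj.rd (ModuleCat.coextendScalars.{u, u, u} φ)

instance : (rightD φ).IsRightDerivedFunctor (CohDer42.RdAdj.rdUnit (ModuleCat.coextendScalars.{u, u, u} φ))
    (HomotopyCategory.quasiIso (ModuleCat.{u} A) (ComplexShape.up ℤ)) :=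
  inferInstanceAs ((CohDer42.RdAdj.rd (ModuleCat.coextendScalars.{u, u, u} φ)).IsRightDerivedFunctor _ _)

/-- The adjunction. -/
noncomputable def rightDAdj : DRing.restrictD φ ⊣ rightD φ :=
  CohDer42.RdAdj.adjRF (ModuleCat.restrictCoextendScalarsAdj.{u, u, u} φ) _
    (CohDer42.RdAdj.rdUnit (ModuleCat.coextendScalars.{u, u, u} φ))

/-- The value on a K-injective complex. -/
noncomputable def rightDObjIso (I : CochainComplex (ModuleCat.{u} A) ℤ) (hI : I.IsKInjective) :
    (rightD φ).obj (DerivedCategory.Q.obj I) ≅ DerivedCategory.Q.obj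
      (((ModuleCat.coextendScalars.{u, u, u} φ).mapHomologicalComplex (ComplexShape.up ℤ)).obj I) :=
  haveI := Mod48.isIso_unit_of_kInjective _ (CohDer42.RdAdj.rdUnit (ModuleCat.coextendScalars.{u, u, u} φ))
    CohDer42.RdAdj.enoughKInj I hI
  (rightD φ).mapIso ((DerivedCategory.quotientCompQhIso (ModuleCat.{u} A)).app I).symm ≪≫
    (asIso ((CohDer42.RdAdj.rdUnit (ModuleCat.coextendScalars.{u, u, u} φ)).app
      ((HomotopyCategory.quotient (ModuleCat.{u} A) (ComplexShape.up ℤ)).obj I))).symm ≪≫
    (DerivedCategory.quotientCompQhIso (ModuleCat.{u} B)).app _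

variable {φ}

lemma nonempty_shift_iso {R : Dual.D A ⥤ Dual.D B} (adj : DRing.restrictD φ ⊣ R) (X : Dual.D A) (k : ℤ) :
    Nonempty (R.obj (X⟦k⟧) ≅ (R.obj X)⟦k⟧) := by
  let := adj.rightAdjointCommShift ℤ
  exact ⟨(R.commShiftIso k).app X⟩

end Right

end Groth.Agent.Shriek42
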