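import Groth.Agent.Shriek42.Presentation
import Groth.Agent.DR39.Dualizing
import Groth.Prelude.Def_CohDer
import Mathlib.RingTheory.IsTensorProduct
import Mathlib.RingTheory.Flat.Stability

/-!
# Flat base change for `RHom_P(B, -)` on bounded below objects
-/

set_option autoImplicit false
set_option linter.unusedSectionVars false
set_option linter.style.haveILetI false
set_option backward.isDefEq.respectTransparency false

universe u

open CategoryTheory CategoryTheory.Limits CategoryTheory.Pretriangulated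
open scoped TensorProduct

namespace Groth.Agent.Shriek42

attribute [local instance] HasDerivedCategory.standard
attribute [local instance] hasLB

open DR39 in
/-- Restriction commutes with extension in a pushout square (proof of `RelPC41.pushoutNatIso`, copied). -/
theorem pushoutNatIso (P T A A' : Type u) [CommRing P] [CommRing T] [CommRing A] [CommRing A']
    [aPT : Algebra P T] [aPA : Algebra P A] [aTA' : Algebra T A'] [aAA' : Algebra A A'] [Algebra P A']
    [IsScalarTower P T A'] [IsScalarTower P A A'] [Algebra.IsPushout P T A A'] :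
    Nonempty (extA A A' ⋙ ModuleCat.restrictScalars.{u} (algebraMap T A') ≅
      ModuleCat.restrictScalars.{u} (algebraMap P A) ⋙ extA P T) := by
  obtain ⟨g, rfl⟩ : ∃ g : P →+* T, aPT = g.toAlgebra :=
    ⟨algebraMap P T, Algebra.algebra_ext _ _ fun _ => rfl⟩
  obtain ⟨g', rfl⟩ : ∃ g' : A →+* A', aAA' = g'.toAlgebra :=
    ⟨algebraMap A A', Algebra.algebra_ext _ _ fun _ => rfl⟩
  obtain ⟨f, rfl⟩ : ∃ f : P →+* A, aPA = f.toAlgebra :=
    ⟨algebraMap P A, Algebra.algebra_ext _ _ fun _ => rfl⟩
  obtain ⟨f', rfl⟩ : ∃ f' : T →+* A', aTA' = f'.toAlgebra :=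
    ⟨algebraMap T A', Algebra.algebra_ext _ _ fun _ => rfl⟩
  letI := g.toAlgebra
  letI := g'.toAlgebra
  letI := f.toAlgebra
  letI := f'.toAlgebra
  let e : ∀ M : ModuleCat.{u} A,
      (extA A A' ⋙ ModuleCat.restrictScalars.{u} (algebraMap T A')).obj M ≅
        (ModuleCat.restrictScalars.{u} (algebraMap P A) ⋙ extA P T).obj M := fun M =>
    letI : Module P M := Module.compHom M f
    haveI : IsScalarTower P A M := ⟨fun p a m => by
      show (f p * a) • m = f p • a • m
      rw [mul_smul]⟩
    LinearEquiv.toModuleIso (({ Algebra.IsPushout.cancelBaseChange P T A A' M with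
      map_smul' := fun t x => by
        letI : Module T (A' ⊗[A] M) := Module.compHom _ f'
        refine Eq.trans ?_ ((Algebra.IsPushout.cancelBaseChange P T A A' M).map_smul t x)
        congr 1 } :
      ((extA A A' ⋙ ModuleCat.restrictScalars.{u} (algebraMap T A')).obj M : Type u) ≃ₗ[T]
        ((ModuleCat.restrictScalars.{u} (algebraMap P A) ⋙ extA P T).obj M : Type u)))
  refine ⟨(NatIso.ofComponents (fun M => (e M).symm) ?_).symm⟩
  intro M N φ
  letI : Module P M := Module.compHom M f
  haveI : IsScalarTower P A M := ⟨fun p a m => by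
    show (f p * a) • m = f p • a • m
    rw [mul_smul]⟩
  letI : Module P N := Module.compHom N f
  haveI : IsScalarTower P A N := ⟨fun p a m => by
    show (f p * a) • m = f p • a • m
    rw [mul_smul]⟩
  refine ModuleCat.hom_ext (LinearMap.ext fun z => ?_)
  show (Algebra.IsPushout.cancelBaseChange P T A A' N).symm ((φ.hom.restrictScalars P).baseChange T z) =
    φ.hom.baseChange A' ((Algebra.IsPushout.cancelBaseChange P T A A' M).symm z)
  change T ⊗[P] M at z
  induction z using TensorProduct.induction_on with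
  | zero => simp
  | tmul t m => simp
  | add x y hx hy => simp only [map_add, hx, hy]

variable {P P' B B' : Type u} [CommRing P] [CommRing P'] [CommRing B] [CommRing B']
  [Algebra P P'] [Algebra P B] [Algebra P' B'] [Algebra B B'] [Algebra P B']
  [IsScalarTower P P' B'] [IsScalarTower P B B'] [Algebra.IsPushout P P' B B'] [Module.Flat P P']

omit [Algebra P P'] [Algebra P B] [Algebra P' B'] [Algebra B B'] [Algebra P B'] in
theorem flat_of_isPushout (P P' B B' : Type u) [CommRing P] [CommRing P'] [CommRing B] [CommRing B']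
    [Algebra P P'] [Algebra P B] [Algebra P' B'] [Algebra B B'] [Algebra P B']
    [IsScalarTower P P' B'] [IsScalarTower P B B'] [h : Algebra.IsPushout P P' B B'] [Module.Flat P P'] :
    Module.Flat B B' := by
  haveI : Algebra.IsPushout P B P' B' := h.symm
  exact Module.Flat.isBaseChange (R := P) (M := P') (S := B) B' (Algebra.IsPushout.out (R := P) (S := B) (R' := P') (S' := B'))

/-- `res (B' ⊗_B X) ≅ P' ⊗_P res X` on derived categories. -/
theorem exists_commIso [Module.Flat B B'] :
    Nonempty (DR39.DF (DR39.extA B B') ⋙ DRing.restrictD (algebraMap P' B') ≅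
      DRing.restrictD (algebraMap P B) ⋙ DR39.DF (DR39.extA P P')) := by
  obtain ⟨ν⟩ := pushoutNatIso P P' B B'
  exact ⟨Localization.liftNatIso DerivedCategory.Q (HomologicalComplex.quasiIso _ (ComplexShape.up ℤ))
    (((DR39.extA B B').mapHomologicalComplex (ComplexShape.up ℤ) ⋙
      (ModuleCat.restrictScalars.{u} (algebraMap P' B')).mapHomologicalComplex (ComplexShape.up ℤ)) ⋙ DerivedCategory.Q)
    (((ModuleCat.restrictScalars.{u} (algebraMap P B)).mapHomologicalComplex (ComplexShape.up ℤ) ⋙
      (DR39.extA P P').mapHomologicalComplex (ComplexShape.up ℤ)) ⋙ DerivedCategory.Q)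
    (h₁ := ⟨(Functor.associator _ _ _).symm ≪≫
      Functor.isoWhiskerRight (DR39.extA B B').mapDerivedCategoryFactors _ ≪≫
      Functor.associator _ _ _ ≪≫
      Functor.isoWhiskerLeft _ (ModuleCat.restrictScalars.{u} (algebraMap P' B')).mapDerivedCategoryFactors ≪≫
      (Functor.associator _ _ _).symm⟩)
    (h₂ := ⟨(Functor.associator _ _ _).symm ≪≫
      Functor.isoWhiskerRight (ModuleCat.restrictScalars.{u} (algebraMap P B)).mapDerivedCategoryFactors _ ≪≫
      Functor.associator _ _ _ ≪≫
      Functor.isoWhiskerLeft _ (DR39.extA P P').mapDerivedCategoryFactors ≪≫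
      (Functor.associator _ _ _).symm⟩) _ _
    (Functor.isoWhiskerRight (NatIso.ofComponents
      (fun K => HomologicalComplex.Hom.isoOfComponents (fun i => ν.app (K.X i))
        (fun i j _ => (ν.hom.naturality (K.d i j)).symm))
      (by intros; ext i : 1; exact ν.hom.naturality _)) _)⟩

omit [Algebra P P'] [Algebra P' B'] [Algebra B B'] [Algebra P B] in
lemma restrictD_map_smul {R S : Type u} [CommRing R] [CommRing S] (φ : R →+* S) (a : R)
    {X Y : Dual.D S} (f : X ⟶ Y) :
    (DRing.restrictD φ).map (φ a • f) = a • (DRing.restrictD φ).map f := by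
  have key : ∀ Y : Dual.D S, (DRing.restrictD φ).map (φ a • 𝟙 Y) = a • 𝟙 ((DRing.restrictD φ).obj Y) := by
    intro Y
    obtain ⟨E, ⟨e⟩⟩ := DR39.exists_complex_iso Y
    have hcx : ((ModuleCat.restrictScalars.{u} φ).mapHomologicalComplex (ComplexShape.up ℤ)).map (φ a • 𝟙 E) =
        a • 𝟙 _ := by
      ext i
      rfl
    have hQ : (DRing.restrictD φ).map ((DR39.QA S).map (φ a • 𝟙 E)) = a • 𝟙 _ := by
      have hn := NatIso.naturality_2 (ModuleCat.restrictScalars.{u} φ).mapDerivedCategoryFactors (φ a • 𝟙 E)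
      refine hn.symm.trans ?_
      dsimp only [Functor.comp_obj, Functor.comp_map]
      rw [hcx, Functor.map_smul, CategoryTheory.Functor.map_id, Linear.smul_comp, Category.id_comp,
        Linear.comp_smul, Iso.hom_inv_id_app]
      rfl
    have h : φ a • 𝟙 Y = e.inv ≫ (DR39.QA S).map (φ a • 𝟙 E) ≫ e.hom := by
      rw [Functor.map_smul, CategoryTheory.Functor.map_id, Linear.smul_comp, Category.id_comp,
        Linear.comp_smul, e.inv_hom_id]
    rw [h, Functor.map_comp, Functor.map_comp, hQ, Linear.smul_comp, Category.id_comp,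
      Linear.comp_smul, ← Functor.map_comp, e.inv_hom_id, CategoryTheory.Functor.map_id]
  rw [← Category.comp_id f, ← Linear.comp_smul, Functor.map_comp, key, Linear.comp_smul,
    Category.comp_id, Category.comp_id]

omit [Algebra P P'] [Algebra P B] [Algebra P' B'] [Algebra B B'] [Algebra P B'] in
lemma eq_zero_of_shift_comp' {S : Type u} [CommRing S] {T : Triangle (Dual.D S)} (k : ℤ) {K : Dual.D S}
    (h : ∀ v : (K⟦-k⟧) ⟶ T.obj₁, v ≫ T.mor₁ = 0 → v = 0)
    (x : K ⟶ T.obj₁⟦k⟧) (hx : x ≫ T.mor₁⟦k⟧' = 0) : x = 0 := by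
  apply (shiftFunctor (Dual.D S) (-k)).map_injective
  rw [Functor.map_zero]
  let α := (shiftFunctorCompIsoId (Dual.D S) k (-k) (add_neg_cancel k))
  rw [← cancel_mono (α.hom.app T.obj₁), zero_comp]
  refine h _ ?_
  have hn := α.hom.naturality T.mor₁
  simp only [Functor.comp_map, Functor.id_map] at hn
  rw [Category.assoc, ← hn, ← Functor.map_comp_assoc, hx, Functor.map_zero, zero_comp]

omit [Algebra P P'] [Algebra P B] [Algebra P' B'] [Algebra B B'] [Algebra P B'] in
/-- The free module of rank one generates `D(S)`. -/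
lemma generates_inD (S : Type u) [CommRing S] : CohDer.Generates (fun _ : PUnit.{u + 1} => Dual.inD S S) := by
  intro K hK
  have hz : ∀ n : ℤ, IsZero ((DR39.HF S n).obj K) := by
    intro n
    refine IsZero.of_iso ?_
      (((DerivedCategory.homologyFunctor (ModuleCat.{u} S) 0).shiftIso n 0 n (add_zero n)).app K).symm
    haveI : Projective (ModuleCat.of S S) := (IsProjective.iff_projective (R := S) _).1 inferInstance
    have hb := DR39.homToH0_bijective (ModuleCat.of S S) (K⟦n⟧)
    refine @ModuleCat.isZero_of_subsingleton _ _ _ ⟨fun a b => ?_⟩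
    have key : ∀ a, a = (0 : (DerivedCategory.homologyFunctor (ModuleCat.{u} S) 0).obj (K⟦n⟧)) := fun a => by
      obtain ⟨f, hf⟩ := hb.2 (ModuleCat.ofHom (LinearMap.toSpanSingleton S _ a))
      rw [hK PUnit.unit n f] at hf
      have h0 : DR39.homToH0 (ModuleCat.of S S) (K⟦n⟧) 0 = 0 := by simp [DR39.homToH0]
      rw [h0] at hf
      simpa using (LinearMap.congr_fun (congrArg ModuleCat.Hom.hom hf) (1 : S)).symm
    rw [key a, key b]
  have : IsIso (0 : K ⟶ K) := by
    rw [DerivedCategory.isIso_iff]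
    exact fun n => ⟨0, (hz n).eq_of_src _ _, (hz n).eq_of_src _ _⟩
  rw [IsZero.iff_id_eq_zero, ← cancel_epi (0 : K ⟶ K)]
  simp

omit [Algebra P P'] [Algebra P B] [Algebra P' B'] [Algebra B B'] [Algebra P B'] in
/-- Isomorphisms are detected by morphisms out of the shifts of a free rank one object. -/
lemma isIso_of_bijective {S : Type u} [CommRing S] {X Y : Dual.D S} (f : X ⟶ Y)
    (h : ∀ m : ℤ, Function.Bijective fun x : (Dual.inD S S)⟦m⟧ ⟶ X => x ≫ f) : IsIso f := by
  obtain ⟨C, p, δ, hT⟩ := distinguished_cocone_triangle f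
  refine (Triangle.isZero₃_iff_isIso₁ _ hT).1 (generates_inD S C fun _ n φ => ?_)
  let adj := (shiftEquiv (Dual.D S) n).symm.toAdjunction
  have key : ∀ (m : ℤ) (x : (Dual.inD S S)⟦m⟧ ⟶ C), x = 0 := fun m x => by
    have hx : x ≫ δ = 0 := by
      refine eq_zero_of_shift_comp' (T := Triangle.mk f p δ) 1 (fun v hv => ?_) _
        ((Category.assoc _ _ _).trans ((congrArg (x ≫ ·) (comp_distTriang_mor_zero₃₁ _ hT)).trans comp_zero))
      let σ := (shiftFunctorAdd' (Dual.D S) m (-1) (m + -1) rfl).app (Dual.inD S S)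
      refine (cancel_epi σ.hom).1 ((h (m + -1)).1 ?_)
      show (σ.hom ≫ v) ≫ f = (σ.hom ≫ 0) ≫ f
      simp only [Category.assoc]
      erw [hv]
      simp
    obtain ⟨y, rfl⟩ : ∃ y : (Dual.inD S S)⟦m⟧ ⟶ Y, x = y ≫ p := Triangle.coyoneda_exact₃ _ hT x hx
    obtain ⟨z, rfl⟩ := (h m).2 y
    have h0 : f ≫ p = 0 := comp_distTriang_mor_zero₁₂ _ hT
    show (z ≫ f) ≫ p = 0
    rw [Category.assoc, h0, comp_zero]
  have hk := key (-n) ((adj.homEquiv _ _).symm φ)
  rw [← (adj.homEquiv _ C).apply_symm_apply φ]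
  exact (congrArg (adj.homEquiv _ C) hk).trans (by
    rw [Adjunction.homEquiv_unit]
    simp only [Functor.map_zero, comp_zero])

/-- Base change of morphisms compared through restriction. -/
theorem bijective_res_comp [Module.Flat B B'] (ψsurj : Function.Surjective (algebraMap P' B'))
    (c : DR39.DF (DR39.extA B B') ⋙ DRing.restrictD (algebraMap P' B') ≅
      DRing.restrictD (algebraMap P B) ⋙ DR39.DF (DR39.extA P P'))
    {R : Dual.D P ⥤ Dual.D B} (adj : DRing.restrictD (algebraMap P B) ⊣ R)
    (M : Dual.D P) (K : Dual.D B) (hK : DR39.Good B' K (R.obj M))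
    (hK' : DR39.Good P' ((DRing.restrictD (algebraMap P B)).obj K) M) :
    Function.Bijective fun f : (DR39.DF (DR39.extA B B')).obj K ⟶ (DR39.DF (DR39.extA B B')).obj (R.obj M) =>
      c.inv.app K ≫ (DRing.restrictD (algebraMap P' B')).map f ≫ c.hom.app (R.obj M) ≫
        (DR39.DF (DR39.extA P P')).map (adj.counit.app M) := by
  let Gα := DR39.DF (DR39.extA B B')
  let Gρ := DR39.DF (DR39.extA P P')
  let res := DRing.restrictD (algebraMap P B)
  let res' := DRing.restrictD (algebraMap P' B')
  let Φ : (Gα.obj K ⟶ Gα.obj (R.obj M)) →+ (Gρ.obj (res.obj K) ⟶ Gρ.obj M) :=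
    { toFun := fun f => c.inv.app K ≫ res'.map f ≫ c.hom.app (R.obj M) ≫ Gρ.map (adj.counit.app M)
      map_zero' := by simp
      map_add' := fun f g => by simp [Preadditive.add_comp, Preadditive.comp_add] }
  let e : (res.obj K ⟶ M) → (K ⟶ R.obj M) := fun g => adj.homEquiv K M g
  have he : ∀ (p : P) (g : res.obj K ⟶ M), e (p • g) = algebraMap P B p • e g := fun p g => by
    refine ((adj.homEquiv K M).symm).injective ?_
    change (adj.homEquiv K M).symm (adj.homEquiv K M (p • g)) = _
    rw [Equiv.symm_apply_apply, Adjunction.homEquiv_counit, restrictD_map_smul, Linear.smul_comp,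
      ← Adjunction.homEquiv_counit]
    exact congrArg (p • ·) ((adj.homEquiv K M).symm_apply_apply g).symm
  have hadd : ∀ g g' : res.obj K ⟶ M, e (g + g') = e g + e g' := fun g g' => by
    refine ((adj.homEquiv K M).symm).injective ?_
    change (adj.homEquiv K M).symm (adj.homEquiv K M (g + g')) = _
    rw [Equiv.symm_apply_apply, Adjunction.homEquiv_counit, Functor.map_add, Preadditive.add_comp,
      ← Adjunction.homEquiv_counit, ← Adjunction.homEquiv_counit]
    exact (congrArg₂ (· + ·) ((adj.homEquiv K M).symm_apply_apply g) ((adj.homEquiv K M).symm_apply_apply g')).symm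
  let q : P' ⊗[P] (res.obj K ⟶ M) →+ B' ⊗[B] (K ⟶ R.obj M) :=
    TensorProduct.liftAddHom
      (AddMonoidHom.mk' (fun t => AddMonoidHom.mk' (fun g => algebraMap P' B' t ⊗ₜ[B] e g)
          (fun g g' => by rw [hadd, TensorProduct.tmul_add]))
        (fun s t => by ext g; simp [TensorProduct.add_tmul]))
      (fun p t g => by
        show algebraMap P' B' (p • t) ⊗ₜ[B] e g = algebraMap P' B' t ⊗ₜ[B] e (p • g)
        rw [he, ← TensorProduct.smul_tmul, Algebra.smul_def, map_mul, Algebra.smul_def,
          ← IsScalarTower.algebraMap_apply P P' B', ← IsScalarTower.algebraMap_apply P B B'])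
  have hΦ : ∀ w, Φ (DR39.thetaBar B' K (R.obj M) (q w)) = DR39.thetaBar P' (res.obj K) M w := fun w => by
    induction w using TensorProduct.induction_on with
    | zero => simp
    | add x y hx hy => simp only [map_add, hx, hy]
    | tmul t g =>
      change Φ (DR39.thetaBar B' K (R.obj M) (algebraMap P' B' t ⊗ₜ[B] e g)) = _
      rw [DR39.thetaBar_tmul, DR39.thetaBar_tmul]
      change c.inv.app K ≫ res'.map (algebraMap P' B' t • Gα.map (e g)) ≫ _ = t • _
      rw [restrictD_map_smul, Linear.smul_comp, Linear.comp_smul]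
      refine congrArg (t • ·) ?_
      have hn : res'.map (Gα.map (e g)) ≫ c.hom.app (R.obj M) = c.hom.app K ≫ Gρ.map (res.map (e g)) :=
        c.hom.naturality (e g)
      rw [← Category.assoc (res'.map _), hn, Category.assoc, Iso.inv_hom_id_app_assoc, ← Functor.map_comp]
      refine congrArg Gρ.map ?_
      exact (adj.homEquiv_counit _ _ _).symm.trans ((adj.homEquiv K M).symm_apply_apply g)
  have hq : Function.Surjective q := fun z => by
    induction z using TensorProduct.induction_on with
    | zero => exact ⟨0, map_zero q⟩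
    | tmul b f =>
      obtain ⟨t, rfl⟩ := ψsurj b
      refine ⟨t ⊗ₜ (adj.homEquiv K M).symm f, ?_⟩
      change algebraMap P' B' t ⊗ₜ[B] adj.homEquiv K M ((adj.homEquiv K M).symm f) = _
      rw [Equiv.apply_symm_apply]
    | add x y hx hy =>
      obtain ⟨a, rfl⟩ := hx
      obtain ⟨b, rfl⟩ := hy
      exact ⟨a + b, map_add q a b⟩
  refine ⟨fun f f' hff => ?_, fun y => ?_⟩
  · obtain ⟨z, rfl⟩ := hK.2 f
    obtain ⟨z', rfl⟩ := hK.2 f'
    obtain ⟨w, rfl⟩ := hq z
    obtain ⟨w', rfl⟩ := hq z'
    have : DR39.thetaBar P' (res.obj K) M w = DR39.thetaBar P' (res.obj K) M w' := by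
      rw [← hΦ, ← hΦ]
      exact hff
    rw [hK'.1 this]
  · obtain ⟨w, rfl⟩ := hK'.2 y
    exact ⟨_, hΦ w⟩

omit [Algebra P P'] [Algebra P' B'] [Algebra B B'] [Algebra P B'] in
lemma inD_pc_shift (hB : ∀ n, DR39.PC n ((DRing.restrictD (algebraMap P B)).obj (Dual.inD B B))) (m n : ℤ) :
    DR39.PC n ((DRing.restrictD (algebraMap P B)).obj ((Dual.inD B B)⟦m⟧)) :=
  ((hB (n + m)).shift m n rfl).of_iso (((DRing.restrictD (algebraMap P B)).commShiftIso m).app _).symm

/-- **Flat base change** for `RHom_P(B, -)` on bounded below objects. -/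
theorem flat_baseChange [Module.Flat B B']
    (ψsurj : Function.Surjective (algebraMap P' B'))
    (hB : ∀ n, DR39.PC n ((DRing.restrictD (algebraMap P B)).obj (Dual.inD B B)))
    {R : Dual.D P ⥤ Dual.D B} (adj : DRing.restrictD (algebraMap P B) ⊣ R)
    {R' : Dual.D P' ⥤ Dual.D B'} (adj' : DRing.restrictD (algebraMap P' B') ⊣ R')
    (M : Dual.D P) (a : ℤ) (hM : ∀ i, i < a → IsZero ((DR39.HF P i).obj M)) :
    Nonempty ((DRing.LBaseChange (algebraMap B B')).obj (R.obj M) ≅
      R'.obj ((DRing.LBaseChange (algebraMap P P')).obj M)) := by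
  obtain ⟨c⟩ := exists_commIso (P := P) (P' := P') (B := B) (B' := B')
  let Gα := DR39.DF (DR39.extA B B')
  let Gρ := DR39.DF (DR39.extA P P')
  let res' := DRing.restrictD (algebraMap P' B')
  let β : Gα.obj (R.obj M) ⟶ R'.obj (Gρ.obj M) :=
    adj'.homEquiv _ _ (c.hom.app (R.obj M) ≫ Gρ.map (adj.counit.app M))
  obtain ⟨eB⟩ := DR39.ext_tensorIso B' (ModuleCat.of B B)
  let eB' : Gα.obj (Dual.inD B B) ≅ Dual.inD B' B' := DR39.DFinD (DR39.extA B B') (ModuleCat.of B B) ≪≫
    (DerivedCategory.singleFunctor (ModuleCat.{u} B') 0).mapIso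
      (eB ≪≫ (TensorProduct.AlgebraTensorModule.rid B B' B').toModuleIso)
  have : IsIso β := isIso_of_bijective β fun m => by
    let K := (Dual.inD B B)⟦m⟧
    let i : Gα.obj K ≅ (Dual.inD B' B')⟦m⟧ := (Gα.commShiftIso m).app _ ≪≫ (shiftFunctor _ m).mapIso eB'
    haveI : Module.Finite B (ModuleCat.of B B) := inferInstanceAs (Module.Finite B B)
    haveI : Module.Free B (ModuleCat.of B B) := inferInstanceAs (Module.Free B B)
    have hKgood : DR39.Good B' K (R.obj M) :=
      (DR39.good_single (B := B') (M := ModuleCat.of B B) ⟨inferInstance, inferInstance⟩ (-m) (R.obj M)).of_iso B'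
        (((DerivedCategory.singleFunctors (ModuleCat.{u} B)).shiftIso m (-m) 0 (by omega)).app _).symm (Iso.refl _)
    have hb := bijective_res_comp ψsurj c adj M K hKgood
      (DR39.good_of_pc P' (c := a) (inD_pc_shift hB m _) hM)
    have hfun : (fun x : (Dual.inD B' B')⟦m⟧ ⟶ Gα.obj (R.obj M) => x ≫ β) =
        (fun y => i.inv ≫ adj'.homEquiv _ _ (c.hom.app K ≫ y)) ∘
          (fun f : Gα.obj K ⟶ Gα.obj (R.obj M) => c.inv.app K ≫ res'.map f ≫ c.hom.app (R.obj M) ≫
            Gρ.map (adj.counit.app M)) ∘ (fun x => i.hom ≫ x) := by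
      funext x
      simp only [Function.comp_apply, Iso.hom_inv_id_app_assoc, β]
      rw [← adj'.homEquiv_naturality_left, ← adj'.homEquiv_naturality_left, ← Functor.map_comp_assoc,
        Iso.inv_hom_id_assoc]
      rfl
    rw [hfun]
    exact (((Iso.homFromEquiv i).bijective).comp
      (((adj'.homEquiv _ _).bijective).comp (Iso.homFromEquiv (c.app K).symm).bijective)).comp
        (hb.comp (Iso.homFromEquiv i.symm).bijective)
  obtain ⟨e₁⟩ := DR39.lbcIso (A := B) B' (R.obj M)
  obtain ⟨e₂⟩ := DR39.lbcIso (A := P) P' M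
  exact ⟨e₁ ≪≫ asIso β ≪≫ R'.mapIso e₂.symm⟩

end Groth.Agent.Shriek42
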