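import Groth.Agent.Shriek42.Step
import Mathlib.RingTheory.RingHom.Flat
import Mathlib.LinearAlgebra.TensorProduct.Tower
import Mathlib.Algebra.Category.ModuleCat.Descent

/-!
# Calculus of `RHom_S(B, - ⊗^L_R S)[n]`
-/

set_option autoImplicit false
set_option linter.unusedSectionVars false
set_option linter.style.haveILetI false
set_option backward.isDefEq.respectTransparency false

universe u

open CategoryTheory CategoryTheory.Limits
open scoped TensorProduct

namespace Groth.Agent.Shriek42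

attribute [local instance] HasDerivedCategory.standard

/-- Derived base change exists. -/
theorem hasLB {A B : Type u} [CommRing A] [CommRing B] (φ : A →+* B) : DRing.HasLBaseChange φ :=
  DR39.hasLBaseChange φ

attribute [local instance] hasLB

variable {R S B C : Type u} [CommRing R] [CommRing S] [CommRing B] [CommRing C]

/-- Derived base change along a composite. -/
noncomputable def lbComp {φ : R →+* S} {ψ : S →+* B} {χ : R →+* B} (h : χ = ψ.comp φ) :
    DRing.LBaseChange χ ≅ DRing.LBaseChange φ ⋙ DRing.LBaseChange ψ :=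
  ((lbAdj χ).ofNatIsoRight (restrictCompIso h)).leftAdjointUniq ((lbAdj φ).comp (lbAdj ψ))

/-- Coinduction along a composite. -/
noncomputable def rightComp {π₁ : S →+* B} {π₂ : B →+* C} {π : S →+* C} (h : π = π₂.comp π₁)
    {R₁ : Dual.D S ⥤ Dual.D B} (a₁ : DRing.restrictD π₁ ⊣ R₁)
    {R₂ : Dual.D B ⥤ Dual.D C} (a₂ : DRing.restrictD π₂ ⊣ R₂)
    {R' : Dual.D S ⥤ Dual.D C} (a : DRing.restrictD π ⊣ R') : R' ≅ R₁ ⋙ R₂ :=
  (a.ofNatIsoLeft (restrictCompIso h)).rightAdjointUniq (a₂.comp a₁)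

/-- `RHom_S(B, X ⊗^L_R S)[n] ≅ X ⊗^L_R B` for every `X`. -/
def Sh (i : R →+* S) (π : S →+* B) (n : ℕ) : Prop :=
  ∀ (Rπ : Dual.D S ⥤ Dual.D B) (_ : DRing.restrictD π ⊣ Rπ) (X : Dual.D R),
    Nonempty ((Rπ.obj ((DRing.LBaseChange i).obj X))⟦(n : ℤ)⟧ ≅ (DRing.LBaseChange (π.comp i)).obj X)

/-- Restriction of scalars is left adjoint to derived base change. -/
def Frob (φ : R →+* S) : Prop := Nonempty (DRing.restrictD φ ⊣ DRing.LBaseChange φ)

theorem Frob.comp {φ : R →+* S} {ψ : S →+* B} (h₁ : Frob φ) (h₂ : Frob ψ) : Frob (ψ.comp φ) := by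
  obtain ⟨a₁⟩ := h₁
  obtain ⟨a₂⟩ := h₂
  exact ⟨((a₂.comp a₁).ofNatIsoLeft (restrictCompIso rfl).symm).ofNatIsoRight (lbComp rfl).symm⟩

theorem frob_of_inverse {φ : R →+* S} {ψ : S →+* R} (h₁ : ψ.comp φ = RingHom.id R)
    (h₂ : φ.comp ψ = RingHom.id S) : Frob φ := by
  let E := restrictEquiv h₁ h₂
  exact ⟨E.toAdjunction.ofNatIsoRight (E.symm.toAdjunction.leftAdjointUniq (lbAdj φ))⟩

theorem Sh.of_inverse (i : R →+* S) {π : S →+* B} {ψ : B →+* S} (h₁ : ψ.comp π = RingHom.id S)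
    (h₂ : π.comp ψ = RingHom.id B) : Sh i π 0 := fun Rπ adj X => by
  obtain ⟨a⟩ := frob_of_inverse h₁ h₂
  exact ⟨(shiftFunctorZero (Dual.D B) ℤ).app _ ≪≫ (adj.rightAdjointUniq a).app _ ≪≫
    ((lbComp (φ := i) (ψ := π) rfl).app X).symm⟩

theorem Sh.of_regular (i : R →+* S) {π : S →+* B} (hπ : Function.Surjective π) (t : S)
    (hker : RingHom.ker π = Ideal.span {t}) (ht : IsSMulRegular S t) : Sh i π 1 := fun Rπ adj X => by
  obtain ⟨e⟩ := step π hπ t hker ht Rπ adj ((DRing.LBaseChange i).obj X)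
  exact ⟨e ≪≫ ((lbComp (φ := i) (ψ := π) rfl).app X).symm⟩

theorem Sh.precomp {P : Type u} [CommRing P] {j : R →+* S} {π : S →+* B} {n : ℕ} (h : Sh j π n)
    (g : P →+* R) : Sh (j.comp g) π n := fun Rπ adj X => by
  obtain ⟨e⟩ := h Rπ adj ((DRing.LBaseChange g).obj X)
  exact ⟨(shiftFunctor (Dual.D B) (n : ℤ)).mapIso (Rπ.mapIso ((lbComp (φ := g) (ψ := j) rfl).app X)) ≪≫
    e ≪≫ ((lbComp (φ := g) (ψ := π.comp j) (χ := π.comp (j.comp g)) rfl).app X).symm⟩

theorem Sh.comp {i : R →+* S} {π₁ : S →+* B} {π₂ : B →+* C} {k₁ k₂ : ℕ} (h₁ : Sh i π₁ k₁)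
    (h₂ : Sh (π₁.comp i) π₂ k₂) : Sh i (π₂.comp π₁) (k₁ + k₂) := fun Rπ adj X => by
  obtain ⟨e₁⟩ := h₁ (rightD π₁) (rightDAdj π₁) X
  obtain ⟨e₂⟩ := h₂ (rightD π₂) (rightDAdj π₂) X
  obtain ⟨e₃⟩ := nonempty_shift_iso (rightDAdj π₂)
    ((rightD π₁).obj ((DRing.LBaseChange i).obj X)) (k₁ : ℤ)
  exact ⟨(shiftFunctor (Dual.D C) ((k₁ + k₂ : ℕ) : ℤ)).mapIso
      ((rightComp rfl (rightDAdj π₁) (rightDAdj π₂) adj).app _) ≪≫
    (shiftFunctorAdd' (Dual.D C) (k₁ : ℤ) (k₂ : ℤ) _ (by simp)).app _ ≪≫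
    (shiftFunctor (Dual.D C) (k₂ : ℤ)).mapIso (e₃.symm ≪≫ (rightD π₂).mapIso e₁) ≪≫ e₂⟩

/-- Equal maps. -/
theorem Sh.congr {i i' : R →+* S} {π π' : S →+* B} {n n' : ℕ} (h : Sh i π n) (hi : i = i')
    (hπ : π = π') (hn : n = n') : Sh i' π' n' := by subst hi hπ hn; exact h

theorem sum_smul_tmul (φ : R →+* S) {d : ℕ} (τ : S →+ R) (hτ : ∀ r y, τ (φ r * y) = r * τ y)
    (x b : Fin d → S) (hxb : ∀ l k, τ (x l * b k) = if l = k then 1 else 0)
    (hnd : ∀ y, (∀ l, τ (x l * y) = 0) → y = 0) (y : S) :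
    (∑ k, φ (τ (x k * y)) * b k = y) ∧ (∑ k, φ (τ (y * b k)) * x k = y) := by
  have h1 : ∀ z, ∑ k, φ (τ (x k * z)) * b k = z := fun z => sub_eq_zero.1 (hnd _ fun l => by
    rw [mul_sub, Finset.mul_sum, map_sub, map_sum]
    simp [mul_left_comm (x l), hτ, hxb])
  refine ⟨h1 y, sub_eq_zero.1 (hnd _ fun l => ?_)⟩
  have h2 : ∀ k, τ (b k * (∑ m, φ (τ (y * b m)) * x m - y)) = 0 := fun k => by
    rw [mul_sub, Finset.mul_sum, map_sub, map_sum, mul_comm (b k) y]
    have e : ∀ m, τ (b k * (φ (τ (y * b m)) * x m)) = τ (y * b m) * (if m = k then 1 else 0) :=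
      fun m => by rw [mul_left_comm, hτ, mul_comm (b k), hxb]
    simp [e]
  rw [← h1 (x l), Finset.sum_mul, map_sum]
  exact Finset.sum_eq_zero fun k _ => by rw [mul_assoc, hτ, h2, mul_zero]

theorem flat_of_dual (φ : R →+* S) {d : ℕ} (τ : S →+ R) (hτ : ∀ r y, τ (φ r * y) = r * τ y)
    (x b : Fin d → S) (hxb : ∀ l k, τ (x l * b k) = if l = k then 1 else 0)
    (hnd : ∀ y, (∀ l, τ (x l * y) = 0) → y = 0) : φ.Flat := by
  letI := φ.toAlgebra
  have hs := fun y => sum_smul_tmul φ τ hτ x b hxb hnd y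
  let e : S ≃ₗ[R] (Fin d → R) :=
    { toFun := fun y k => τ (x k * y)
      invFun := fun f => ∑ k, φ (f k) * b k
      map_add' := fun y z => funext fun k => by simp [mul_add]
      map_smul' := fun r y => funext fun k => by
        change τ (x k * (φ r * y)) = r * τ (x k * y)
        rw [mul_left_comm, hτ]
      left_inv := fun y => (hs y).1
      right_inv := fun f => funext fun l => by
        simp [Finset.mul_sum, mul_left_comm (x l), hτ, hxb] }
  exact (Module.Flat.of_linearEquiv e : Module.Flat R S)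

/-- The natural isomorphism between extension and coextension of scalars for a dual basis. -/
theorem exists_extend_iso_coextend (φ : R →+* S) {d : ℕ} (τ : S →+ R)
    (hτ : ∀ r y, τ (φ r * y) = r * τ y) (x b : Fin d → S)
    (hxb : ∀ l k, τ (x l * b k) = if l = k then 1 else 0)
    (hnd : ∀ y, (∀ l, τ (x l * y) = 0) → y = 0) :
    Nonempty (ModuleCat.extendScalars.{u, u, u} φ ≅ ModuleCat.coextendScalars.{u, u, u} φ) := by
  letI := φ.toAlgebra
  have hs := fun y => sum_smul_tmul φ τ hτ x b hxb hnd y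
  have hτ' : ∀ (r : R) (y : S), τ (r • y) = r * τ y := hτ
  let F : ∀ M : ModuleCat.{u} R, S ⊗[R] M →+ (S →ₗ[R] M) := fun M =>
    (TensorProduct.lift (LinearMap.mk₂ R
      (fun (s : S) (m : M) =>
        ({ toFun := fun y => τ (y * s) • m
           map_add' := fun y z => by rw [add_mul, map_add, add_smul]
           map_smul' := fun r y => by rw [smul_mul_assoc, hτ', mul_smul]; rfl } : S →ₗ[R] M))
      (fun s s' m => LinearMap.ext fun y => by simp [mul_add, add_smul])
      (fun r s m => LinearMap.ext fun y => by simp [hτ', mul_smul])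
      (fun s m m' => LinearMap.ext fun y => by simp [smul_add])
      (fun r s m => LinearMap.ext fun y => by simp [smul_comm r]))).toAddMonoidHom
  have hF : ∀ (M : ModuleCat.{u} R) (s : S) (m : M) (y : S), F M (s ⊗ₜ m) y = τ (y * s) • m :=
    fun _ _ _ _ => rfl
  have hl : ∀ (M : ModuleCat.{u} R) (z : S ⊗[R] M), ∑ k, b k ⊗ₜ[R] F M z (x k) = z := fun M z => by
    induction z using TensorProduct.induction_on with
    | zero => simp
    | add z z' hz hz' => simp [TensorProduct.tmul_add, Finset.sum_add_distrib, hz, hz']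
    | tmul s m =>
      conv_rhs => rw [← (hs s).1, TensorProduct.sum_tmul]
      refine Finset.sum_congr rfl fun k _ => ?_
      rw [hF, ← TensorProduct.smul_tmul]
      rfl
  have hr : ∀ (M : ModuleCat.{u} R) (g : S →ₗ[R] M), F M (∑ k, b k ⊗ₜ[R] g (x k)) = g := fun M g =>
    LinearMap.ext fun y => by
      rw [map_sum, LinearMap.sum_apply]
      conv_rhs => rw [← (hs y).2, map_sum]
      refine Finset.sum_congr rfl fun k _ => ?_
      rw [hF, ← map_smul]
      rfl
  have hsm : ∀ (M : ModuleCat.{u} R) (s : S) (z : S ⊗[R] M) (y : S), F M (s • z) y = F M z (y * s) :=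
    fun M s z y => by
      induction z using TensorProduct.induction_on with
      | zero => simp
      | add z z' hz hz' => simp [smul_add, hz, hz']
      | tmul s' m => rw [TensorProduct.smul_tmul', hF, hF, smul_eq_mul, mul_assoc]
  let e : ∀ M : ModuleCat.{u} R,
      (ModuleCat.extendScalars.{u, u, u} φ).obj M ≅ (ModuleCat.coextendScalars.{u, u, u} φ).obj M :=
    fun M => LinearEquiv.toModuleIso
      ({ toFun := fun (z : S ⊗[R] M) => (ModuleCat.CoextendScalars.equiv φ M).symm (F M z)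
         invFun := fun g => ∑ k, b k ⊗ₜ[R] (show S →ₗ[R] M from ModuleCat.CoextendScalars.equiv φ M g) (x k)
         map_add' := fun (z z' : S ⊗[R] M) => congrArg (ModuleCat.CoextendScalars.equiv φ M).symm (map_add (F M) z z')
         map_smul' := fun (s : S) (z : S ⊗[R] M) => ModuleCat.CoextendScalars.ext (LinearMap.ext fun y => hsm M s z y)
         left_inv := fun z => hl M z
         right_inv := fun g => ModuleCat.CoextendScalars.ext (hr M _) } :
        (ModuleCat.extendScalars.{u, u, u} φ).obj M ≃ₗ[S] (ModuleCat.coextendScalars.{u, u, u} φ).obj M)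
  refine ⟨NatIso.ofComponents e fun {M N} f => ModuleCat.hom_ext (LinearMap.ext fun z =>
    ModuleCat.CoextendScalars.ext (LinearMap.ext fun y => ?_))⟩
  change S ⊗[R] M at z
  change F N (f.hom.baseChange S z) y = f.hom (F M z y)
  induction z using TensorProduct.induction_on with
  | zero => simp
  | add z z' hz hz' => simp [hz, hz']
  | tmul s m => simp [hF]

theorem frob_of_dual (φ : R →+* S) {d : ℕ} (τ : S →+ R) (hτ : ∀ r y, τ (φ r * y) = r * τ y)
    (x b : Fin d → S) (hxb : ∀ l k, τ (x l * b k) = if l = k then 1 else 0)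
    (hnd : ∀ y, (∀ l, τ (x l * y) = 0) → y = 0) : Frob φ := by
  obtain ⟨e⟩ := exists_extend_iso_coextend φ τ hτ x b hxb hnd
  haveI : PreservesFiniteLimits (ModuleCat.extendScalars.{u, u, u} φ) :=
    ModuleCat.preservesFiniteLimits_extendScalars_of_flat (flat_of_dual φ τ hτ x b hxb hnd)
  have a₁ := exactAdj (ModuleCat.extendRestrictScalarsAdj.{u, u, u} φ)
  have a₂ := exactAdj ((ModuleCat.restrictCoextendScalarsAdj.{u, u, u} φ).ofNatIsoRight e.symm)
  exact ⟨a₂.ofNatIsoRight (a₁.leftAdjointUniq (lbAdj φ))⟩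

end Groth.Agent.Shriek42
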