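import Groth.Agent.Shriek42.CompBC
import Groth.Agent.DR39.Bidual3

/-!
# Upper shrieks of bounded below objects with finite cohomology
-/

set_option autoImplicit false
set_option linter.unusedSectionVars false
set_option linter.style.haveILetI false
set_option backward.isDefEq.respectTransparency false

universe u

open CategoryTheory CategoryTheory.Limits

namespace Groth.Agent.Shriek42

attribute [local instance] HasDerivedCategory.standard
attribute [local instance] hasLB

variable {P B : Type u} [CommRing P] [CommRing B] [Algebra P B]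

/-- A right adjoint of restriction is left t-exact. -/
lemma isGE_right {R : Dual.D P ⥤ Dual.D B} (adj : DRing.restrictD (algebraMap P B) ⊣ R)
    (X : Dual.D P) (m : ℤ) (h : ∀ i, i < m → IsZero ((DR39.HF P i).obj X)) (i : ℤ) (hi : i < m) :
    IsZero ((DR39.HF B i).obj (R.obj X)) := by
  haveI : X.IsGE m := (DerivedCategory.isGE_iff X m).2 fun j hj => h j hj
  have : DerivedCategory.TStructure.t.IsGE (R.obj X) m := by
    rw [DerivedCategory.TStructure.t.isGE_iff_orthogonal (m - 1) m (by lia)]
    intro Z f hZ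
    haveI : Z.IsLE (m - 1) := hZ
    have hZ' : ((DRing.restrictD (algebraMap P B)).obj Z).IsLE (m - 1) :=
      (DR39.acyc_iff_isLE m _).1 (((DR39.acyc_iff_isLE m Z).2 inferInstance).map _)
    apply (adj.homEquiv Z X).symm.injective
    exact (DerivedCategory.TStructure.t.zero_of_isLE_of_isGE _ (m - 1) m (by lia) hZ' inferInstance).trans
      (DerivedCategory.TStructure.t.zero_of_isLE_of_isGE _ (m - 1) m (by lia) hZ' inferInstance).symm
  exact DerivedCategory.isZero_of_isGE (R.obj X) m i hi

variable [IsNoetherianRing P]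

/-- Finiteness of cohomology after applying a right adjoint of restriction along a finite map. -/
lemma finite_HF_right [Module.Finite P B] {R : Dual.D P ⥤ Dual.D B}
    (adj : DRing.restrictD (algebraMap P B) ⊣ R) (X : Dual.D P) (m : ℤ)
    (h : ∀ i, i < m → IsZero ((DR39.HF P i).obj X)) (hfin : ∀ i : ℤ, Module.Finite P (Dual.HD P X i))
    (i : ℤ) : Module.Finite B (Dual.HD B (R.obj X) i) := by
  obtain ⟨er⟩ := DR39.rest_self_iso (A := P) B
  let e₀ : (DRing.restrictD (algebraMap P B)).obj (Dual.inD B B) ≅ DR39.sngl 0 (ModuleCat.of P B) :=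
    ((ModuleCat.restrictScalars.{u} (algebraMap P B)).mapDerivedCategorySingleFunctor 0).app (ModuleCat.of B B) ≪≫
      (DerivedCategory.singleFunctor (ModuleCat.{u} P) 0).mapIso er
  haveI : Module.Finite P (ModuleCat.of P B) := inferInstanceAs (Module.Finite P B)
  haveI := DR39.finite_hom_sngl h hfin (ModuleCat.of P B) 0 i
  haveI : Module.Finite P ((DRing.restrictD (algebraMap P B)).obj (Dual.inD B B) ⟶ X⟦i⟧) :=
    DR39.finite_hom_congr e₀ (Iso.refl _) inferInstance
  let := adj.rightAdjointCommShift ℤ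
  let Y := (R.obj X)⟦i⟧
  let eY : R.obj (X⟦i⟧) ≅ Y := (R.commShiftIso i).app X
  haveI : Projective (ModuleCat.of B B) := (IsProjective.iff_projective (R := B) _).1 inferInstance
  let Φ : ((DRing.restrictD (algebraMap P B)).obj (Dual.inD B B) ⟶ X⟦i⟧) →
      (DR39.HF B 0).obj Y := fun g =>
    DR39.homToH0 (ModuleCat.of B B) Y (adj.homEquiv _ _ g ≫ eY.hom) (1 : B)
  have hΦadd : ∀ g g', Φ (g + g') = Φ g + Φ g' := fun g g' => by
    have h1 : adj.homEquiv _ _ (g + g') = adj.homEquiv _ _ g + adj.homEquiv _ _ g' := by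
      let := adj.right_adjoint_additive
      rw [Adjunction.homEquiv_unit, Adjunction.homEquiv_unit, Adjunction.homEquiv_unit, Functor.map_add,
        Preadditive.comp_add]
    simp only [Φ, DR39.homToH0, h1, Preadditive.add_comp, Functor.map_add, Preadditive.comp_add]
    rfl
  have hΦsmul : ∀ (p : P) g, Φ (p • g) = algebraMap P B p • Φ g := fun p g => by
    have h1 : adj.homEquiv _ _ (p • g) = algebraMap P B p • adj.homEquiv _ _ g := by
      apply (adj.homEquiv _ _).symm.injective
      rw [Equiv.symm_apply_apply, Adjunction.homEquiv_counit, restrictD_map_smul, Linear.smul_comp,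
        ← Adjunction.homEquiv_counit, Equiv.symm_apply_apply]
    let S0 := DerivedCategory.singleFunctor (ModuleCat.{u} B) 0
    let z := adj.homEquiv _ _ g ≫ eY.hom
    have h2 : S0.map (algebraMap P B p • 𝟙 (ModuleCat.of B B)) ≫ z = adj.homEquiv _ _ (p • g) ≫ eY.hom := by
      rw [h1, Functor.map_smul, CategoryTheory.Functor.map_id, Linear.smul_comp, Category.id_comp,
        Linear.smul_comp]
    change DR39.homToH0 (ModuleCat.of B B) Y (adj.homEquiv _ _ (p • g) ≫ eY.hom) (1 : B) = _
    rw [← h2, DR39.homToH0_precomp]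
    exact map_smul (DR39.homToH0 (ModuleCat.of B B) Y z).hom (algebraMap P B p) (1 : B)
  have hΦsurj : Function.Surjective Φ := fun x => by
    obtain ⟨u, hu⟩ := (DR39.homToH0_bijective (ModuleCat.of B B) Y).2
      (ModuleCat.ofHom (LinearMap.toSpanSingleton B _ x))
    refine ⟨(adj.homEquiv _ _).symm (u ≫ eY.inv), ?_⟩
    have h2 : DR39.homToH0 (ModuleCat.of B B) Y (adj.homEquiv _ _ ((adj.homEquiv _ _).symm (u ≫ eY.inv)) ≫ eY.hom) =
        ModuleCat.ofHom (LinearMap.toSpanSingleton B _ x) := by
      rw [Equiv.apply_symm_apply, Category.assoc, Iso.inv_hom_id, Category.comp_id, hu]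
    exact (congrArg (fun φ : ModuleCat.of B B ⟶ (DR39.HF B 0).obj Y => φ (1 : B)) h2).trans (one_smul B x)
  haveI hfin0 : Module.Finite B ((DR39.HF B 0).obj Y) := by
    obtain ⟨s, hs⟩ := (inferInstance :
      Module.Finite P ((DRing.restrictD (algebraMap P B)).obj (Dual.inD B B) ⟶ X⟦i⟧)).fg_top
    classical
    refine ⟨⟨s.image Φ, eq_top_iff.2 fun y _ => ?_⟩⟩
    obtain ⟨g, rfl⟩ := hΦsurj y
    rename_i hy
    clear hy
    have hg : g ∈ Submodule.span P (s : Set _) := hs ▸ Submodule.mem_top
    induction hg using Submodule.span_induction with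
    | mem g hg => exact Submodule.subset_span (Finset.mem_image_of_mem Φ hg)
    | zero =>
      have : Φ 0 = 0 := by simpa using hΦadd 0 0
      rw [this]; exact Submodule.zero_mem _
    | add a b _ _ ha hb => rw [hΦadd]; exact Submodule.add_mem _ ha hb
    | smul p a _ ha => rw [hΦsmul]; exact Submodule.smul_mem _ _ ha
  exact @Module.Finite.equiv _ _ _ _ _ _ _ _ hfin0
    ((((DerivedCategory.homologyFunctor (ModuleCat.{u} B) 0).shiftIso i 0 i (add_zero i)).app (R.obj X))).toLinearEquiv

/-- Upper shriek preserves bounded below and coherent cohomology. -/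
theorem shriekVia_bounded_below_and_coherent {R A : Type u} [CommRing R] [CommRing A]
    [IsNoetherianRing R] [Algebra R A] (n : ℕ) (ψ : MvPolynomial (Fin n) R →ₐ[R] A)
    (hψ : Function.Surjective ψ)
    (Rψ : Dual.D (MvPolynomial (Fin n) R) ⥤ Dual.D A) (adj : DRing.restrictD ψ.toRingHom ⊣ Rψ)
    (K : Dual.D R) (a : ℤ) (hKa : ∀ i : ℤ, i < a → Subsingleton (Dual.HD R K i)) :
    (∃ b : ℤ, ∀ i : ℤ, i < b → Subsingleton (Dual.HD A (Dual2.shriekVia n Rψ K) i)) ∧
      ((∀ i : ℤ, Module.Finite R (Dual.HD R K i)) →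
        ∀ i : ℤ, Module.Finite A (Dual.HD A (Dual2.shriekVia n Rψ K) i)) := by
  let P := MvPolynomial (Fin n) R
  letI : Algebra P A := ψ.toRingHom.toAlgebra
  haveI : Module.Finite P A := Module.Finite.of_surjective (Algebra.linearMap P A) hψ
  let M := (DRing.LBaseChange (algebraMap R P)).obj K
  have hM : ∀ i, i < a → IsZero ((DR39.HF P i).obj M) := fun i hi =>
    isZero_HF_lb K i ((DR39.isZero_HF_iff K i).2 (hKa i hi))
  let sh : ∀ i : ℤ, (DR39.HF A i).obj (Dual2.shriekVia n Rψ K) ≅ (DR39.HF A (n + i)).obj (Rψ.obj M) :=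
    fun i => ((DerivedCategory.homologyFunctor (ModuleCat.{u} A) 0).shiftIso (n : ℤ) i (n + i) rfl).app (Rψ.obj M)
  refine ⟨⟨a - n, fun i hi => (DR39.isZero_HF_iff _ i).1
    ((isGE_right adj M a hM (n + i) (by omega)).of_iso (sh i))⟩, fun hfin i => ?_⟩
  haveI := finite_HF_right adj M a hM (fun j => by
    haveI := hfin j
    obtain ⟨e⟩ := DR39.lbcIso (A := R) P K
    haveI := DR39.finite_HF_DF P (X := K) (i := j)
    exact Module.Finite.equiv ((DR39.HF P j).mapIso e).symm.toLinearEquiv) ((n : ℤ) + i)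
  exact Module.Finite.equiv (sh i).symm.toLinearEquiv

end Groth.Agent.Shriek42
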