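import Groth.Agent.Shriek42.Tower
import Groth.Prelude.Def_DualSh
import Mathlib.RingTheory.FiniteType
import Mathlib.RingTheory.IntegralClosure.IsIntegral.Basic
import Mathlib.RingTheory.IntegralClosure.Algebra.Basic

/-!
# Independence of the presentation, finite maps
-/

set_option autoImplicit false
set_option linter.unusedSectionVars false
set_option linter.style.haveILetI false
set_option backward.isDefEq.respectTransparency false

universe u

open CategoryTheory Polynomial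

namespace Groth.Agent.Shriek42

attribute [local instance] HasDerivedCategory.standard
attribute [local instance] hasLB

/-- A section `y ↦ f` of a polynomial ring. -/
theorem exists_section_Sh (P : Type u) [CommRing P] (m : ℕ) (f : Fin m → P) :
    ∃ π : MvPolynomial (Fin m) P →ₐ[P] P, (∀ j, π (MvPolynomial.X j) = f j) ∧
      Sh (algebraMap P (MvPolynomial (Fin m) P)) π.toRingHom m := by
  obtain ⟨B, cB, aB, π, hs, hsh, -, hroot, hup⟩ := tower m P (fun j => X - Polynomial.C (f j)) (fun _ => monic_X_sub_C _)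
  obtain ⟨ρ, hρ⟩ := hup P f (fun j => by simp)
  refine ⟨ρ.comp π, hρ, ?_⟩
  have h₁ : ρ.toRingHom.comp (algebraMap P B) = RingHom.id P := RingHom.ext fun r => ρ.commutes r
  have h₂ : (algebraMap P B).comp ρ.toRingHom = RingHom.id B := by
    refine RingHom.ext fun b => ?_
    obtain ⟨z, rfl⟩ := hs b
    change algebraMap P B (ρ (π z)) = π z
    have : ((Algebra.ofId P B).comp (ρ.comp π)) = π := MvPolynomial.algHom_ext fun j => by
      change algebraMap P B (ρ (π (MvPolynomial.X j))) = π (MvPolynomial.X j)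
      rw [hρ]
      have := hroot j
      rw [map_sub, aeval_X, aeval_C, sub_eq_zero] at this
      exact this.symm
    exact AlgHom.congr_fun this z
  exact (hsh.comp (Sh.of_inverse _ h₂ h₁)).congr rfl rfl (by omega)

/-- The value through one presentation and through a joint presentation. -/
theorem shriek_joint {R A P T : Type u} [CommRing R] [CommRing A] [CommRing P] [CommRing T]
    {iP : R →+* P} {iT : P →+* T} {π : T →+* P} {m : ℕ} (hsh : Sh iT π m)
    (hsec : π.comp iT = RingHom.id P) {ψ : P →+* A} {χ : T →+* A} (hχ : χ = ψ.comp π)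
    {iRT : R →+* T} (hi : iRT = iT.comp iP)
    {Rψ : Dual.D P ⥤ Dual.D A} (adj : DRing.restrictD ψ ⊣ Rψ)
    {Rχ : Dual.D T ⥤ Dual.D A} (adjχ : DRing.restrictD χ ⊣ Rχ) (K : Dual.D R) :
    Nonempty ((Rχ.obj ((DRing.LBaseChange iRT).obj K))⟦(m : ℤ)⟧ ≅
      Rψ.obj ((DRing.LBaseChange iP).obj K)) := by
  obtain ⟨e⟩ := hsh (rightD π) (rightDAdj π) ((DRing.LBaseChange iP).obj K)
  obtain ⟨e'⟩ := nonempty_shift_iso adj
    ((rightD π).obj ((DRing.LBaseChange iT).obj ((DRing.LBaseChange iP).obj K))) (m : ℤ)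
  exact ⟨(shiftFunctor (Dual.D A) (m : ℤ)).mapIso
      ((rightComp hχ (rightDAdj π) adj adjχ).app _ ≪≫
        Rψ.mapIso ((rightD π).mapIso ((lbComp hi).app K))) ≪≫
    e'.symm ≪≫ Rψ.mapIso (e ≪≫ ((lbComp (φ := iP) (ψ := π.comp iT) (χ := iP)
      (by rw [hsec, RingHom.id_comp])).app K).symm)⟩

/-- The value is unchanged by an isomorphism of presentations. -/
theorem shriek_iso {R A T T' : Type u} [CommRing R] [CommRing A] [CommRing T] [CommRing T']
    (σ : T ≃+* T') {iT : R →+* T} {iT' : R →+* T'} (hi : iT' = σ.toRingHom.comp iT)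
    {χ : T →+* A} {χ' : T' →+* A} (hχ : χ = χ'.comp σ.toRingHom)
    {Rχ : Dual.D T ⥤ Dual.D A} (adj : DRing.restrictD χ ⊣ Rχ)
    {Rχ' : Dual.D T' ⥤ Dual.D A} (adj' : DRing.restrictD χ' ⊣ Rχ') (K : Dual.D R) :
    Nonempty (Rχ.obj ((DRing.LBaseChange iT).obj K) ≅ Rχ'.obj ((DRing.LBaseChange iT').obj K)) := by
  obtain ⟨e⟩ := Sh.of_inverse iT (π := σ.toRingHom) (ψ := σ.symm.toRingHom)
    (RingHom.ext σ.symm_apply_apply) (RingHom.ext σ.apply_symm_apply) (rightD σ.toRingHom)
    (rightDAdj σ.toRingHom) K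
  exact ⟨(rightComp hχ (rightDAdj σ.toRingHom) adj' adj).app _ ≪≫
    Rχ'.mapIso (((shiftFunctorZero (Dual.D T') ℤ).app _).symm ≪≫ e ≪≫ eqToIso (by subst hi; rfl))⟩

/-- The upper shriek does not depend on the presentation. -/
theorem shriekVia_independent {R A : Type u} [CommRing R] [CommRing A] [Algebra R A] (n : ℕ)
    (ψ : MvPolynomial (Fin n) R →ₐ[R] A) (hψ : Function.Surjective ψ)
    (Rψ : Dual.D (MvPolynomial (Fin n) R) ⥤ Dual.D A) (adj : DRing.restrictD ψ.toRingHom ⊣ Rψ)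
    (m : ℕ) (ψ' : MvPolynomial (Fin m) R →ₐ[R] A) (hψ' : Function.Surjective ψ')
    (Rψ' : Dual.D (MvPolynomial (Fin m) R) ⥤ Dual.D A) (adj' : DRing.restrictD ψ'.toRingHom ⊣ Rψ')
    (K : Dual.D R) : Nonempty (Dual2.shriekVia n Rψ K ≅ Dual2.shriekVia m Rψ' K) := by
  let P := MvPolynomial (Fin n) R
  let P' := MvPolynomial (Fin m) R
  let T := MvPolynomial (Fin m) P
  let T' := MvPolynomial (Fin n) P'
  choose f hf using fun j : Fin m => hψ (ψ' (MvPolynomial.X j))
  choose g hg using fun l : Fin n => hψ' (ψ (MvPolynomial.X l))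
  obtain ⟨π, hπ, hsh⟩ := exists_section_Sh P m f
  obtain ⟨π', hπ', hsh'⟩ := exists_section_Sh P' n g
  let iRT : R →+* T := (algebraMap P T).comp (algebraMap R P)
  let iRT' : R →+* T' := (algebraMap P' T').comp (algebraMap R P')
  let σ := MvPolynomial.commAlgEquiv R (Fin m) (Fin n)
  let χ : T →+* A := ψ.toRingHom.comp π.toRingHom
  let χ' : T' →+* A := ψ'.toRingHom.comp π'.toRingHom
  obtain ⟨e₁⟩ := shriek_joint hsh (RingHom.ext π.commutes) (χ := χ) rfl (iP := algebraMap R P)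
    (iRT := iRT) rfl adj (rightDAdj χ) K
  obtain ⟨e₂⟩ := shriek_joint hsh' (RingHom.ext π'.commutes) (χ := χ') rfl (iP := algebraMap R P')
    (iRT := iRT') rfl adj' (rightDAdj χ') K
  have hC : ∀ r : R, σ (MvPolynomial.C (MvPolynomial.C r)) = MvPolynomial.C (MvPolynomial.C r) := fun r => by
    simp [σ]
  have hs : χ = χ'.comp σ.toRingEquiv.toRingHom := by
    refine MvPolynomial.ringHom_ext (fun p => ?_) (fun j => ?_)
    · induction p using MvPolynomial.induction_on with
      | C r =>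
        change ψ (π (algebraMap P T (algebraMap R P r))) = ψ' (π' (σ (MvPolynomial.C (MvPolynomial.C r))))
        rw [hC]
        change _ = ψ' (π' (algebraMap P' T' (algebraMap R P' r)))
        rw [π.commutes, π'.commutes]
        exact (ψ.commutes r).trans (ψ'.commutes r).symm
      | add p q hp hq => simp only [map_add, hp, hq]
      | mul_X p l hp =>
        simp only [map_mul, hp]
        congr 1
        change ψ (π (algebraMap P T (MvPolynomial.X l))) = ψ' (π' (σ (MvPolynomial.C (MvPolynomial.X l))))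
        rw [MvPolynomial.commAlgEquiv_C_X, hπ', hg, π.commutes]
        rfl
    · change ψ (π (MvPolynomial.X j)) = ψ' (π' (σ (MvPolynomial.X j)))
      rw [MvPolynomial.commAlgEquiv_X, hπ, hf, ← MvPolynomial.algebraMap_eq, π'.commutes]
      rfl
  obtain ⟨e⟩ := shriek_iso σ.toRingEquiv (iT := iRT) (iT' := iRT')
    (RingHom.ext fun r => (hC r).symm) hs (rightDAdj χ) (rightDAdj χ') K
  exact ⟨(shiftFunctor (Dual.D A) (n : ℤ)).mapIso e₁.symm ≪≫
    ((shiftFunctorAdd' (Dual.D A) (m : ℤ) (n : ℤ) ((n : ℤ) + m) (by ring)).app _).symm ≪≫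
    (shiftFunctor (Dual.D A) ((n : ℤ) + m)).mapIso e ≪≫
    (shiftFunctorAdd' (Dual.D A) (n : ℤ) (m : ℤ) ((n : ℤ) + m) rfl).app _ ≪≫
    (shiftFunctor (Dual.D A) (m : ℤ)).mapIso e₂⟩

/-- For a finite algebra the upper shriek is `RHom_R(A, -)`. -/
theorem shriekVia_iso_of_finite {R A : Type u} [CommRing R] [CommRing A] [Algebra R A]
    [Module.Finite R A] (n : ℕ)
    (ψ : MvPolynomial (Fin n) R →ₐ[R] A)
    (Rψ : Dual.D (MvPolynomial (Fin n) R) ⥤ Dual.D A) (adj : DRing.restrictD ψ.toRingHom ⊣ Rψ)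
    (R' : Dual.D R ⥤ Dual.D A) (adjR : DRing.restrictD (algebraMap R A) ⊣ R') (K : Dual.D R) :
    Nonempty (Dual2.shriekVia n Rψ K ≅ R'.obj K) := by
  choose p hp hpa using fun j : Fin n => Algebra.IsIntegral.isIntegral (R := R) (ψ (MvPolynomial.X j))
  obtain ⟨B, cB, aB, π, -, hsh, ⟨hfr⟩, -, hup⟩ := tower n R p hp
  obtain ⟨ρ, hρ⟩ := hup A (fun j => ψ (MvPolynomial.X j)) (fun j => hpa j)
  have hψπ : ψ.toRingHom = ρ.toRingHom.comp π.toRingHom :=
    congrArg AlgHom.toRingHom (MvPolynomial.algHom_ext (f := ψ) (g := ρ.comp π) fun j => (hρ j).symm)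
  have hπi : π.toRingHom.comp (algebraMap R _) = algebraMap R B := RingHom.ext π.commutes
  have hρi : algebraMap R A = ρ.toRingHom.comp (algebraMap R B) := RingHom.ext fun r => (ρ.commutes r).symm
  obtain ⟨e⟩ := hsh (rightD π.toRingHom) (rightDAdj π.toRingHom) K
  obtain ⟨e'⟩ := nonempty_shift_iso (rightDAdj ρ.toRingHom)
    ((rightD π.toRingHom).obj ((DRing.LBaseChange (algebraMap R (MvPolynomial (Fin n) R))).obj K)) (n : ℤ)
  exact ⟨(shiftFunctor (Dual.D A) (n : ℤ)).mapIso
      ((rightComp hψπ (rightDAdj π.toRingHom) (rightDAdj ρ.toRingHom) adj).app _) ≪≫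
    e'.symm ≪≫ (rightD ρ.toRingHom).mapIso (e ≪≫ (eqToIso (by congr 2) :
      (DRing.LBaseChange (π.toRingHom.comp (algebraMap R _))).obj K ≅ (DRing.LBaseChange (algebraMap R B)).obj K)) ≪≫
    ((rightComp hρi hfr (rightDAdj ρ.toRingHom) adjR).app K).symm⟩

end Groth.Agent.Shriek42
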