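import Groth.Agent.Shriek42.Adj
import Groth.Agent.DR39.Elem
import Groth.Agent.CohDer42.KInj
import Mathlib.LinearAlgebra.TensorProduct.RightExactness
import Mathlib.Algebra.Homology.ShortComplex.ShortExact
import Mathlib.CategoryTheory.Preadditive.Injective.Basic

/-!
# Quotient by one regular element: `RHom_S(B, M)[1] = M ⊗^L_S B`
-/

set_option autoImplicit false
set_option linter.unusedSectionVars false
set_option linter.style.haveILetI false
set_option backward.isDefEq.respectTransparency false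

universe u

open CategoryTheory CategoryTheory.Limits

namespace Groth.Agent.Shriek42

attribute [local instance] HasDerivedCategory.standard

section Elements

variable {S B : Type u} [CommRing S] [CommRing B]
  {C I : CochainComplex (ModuleCat.{u} S) ℤ} {N E : CochainComplex (ModuleCat.{u} B) ℤ}

lemma mem_range_of_quasiIso (j : C ⟶ I) [QuasiIso j] {k i l : ℤ} (hk : k + 1 = i) (hl : i + 1 = l)
    (a : C.X i) (ha : C.d i l a = 0) (y : I.X k) (hy : I.d k i y = j.f i a) :
    ∃ x : C.X k, C.d k i x = a := by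
  obtain rfl : k = i - 1 := by omega
  subst hl
  have h : Function.Injective (HomologicalComplex.homologyMap j i).hom :=
    ((DR39.isIso_iff_bijective _).1 inferInstance).1
  obtain ⟨x, hx⟩ := (DR39.injective_homologyMap_iff j i).1 h a ha y hy
  exact ⟨x, hx⟩

lemma exists_cycle_of_quasiIso (j : C ⟶ I) [QuasiIso j] {k i l : ℤ} (hk : k + 1 = i) (hl : i + 1 = l)
    (z : I.X i) (hz : I.d i l z = 0) :
    ∃ (a : C.X i) (y : I.X k), C.d i l a = 0 ∧ j.f i a + I.d k i y = z := by
  obtain rfl : k = i - 1 := by omega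
  subst hl
  have h : Function.Surjective (HomologicalComplex.homologyMap j i).hom :=
    ((DR39.isIso_iff_bijective _).1 inferInstance).2
  obtain ⟨a, ha, y, hy⟩ := (DR39.surjective_homologyMap_iff j i).1 h z hz
  exact ⟨a, -y, ha, by rw [map_neg, show I.d (i - 1) i y = j.f i a - z from hy]; abel⟩

variable (t : S) (j : C ⟶ I) (v : N ⟶ E)
  (q : ∀ n, C.X n →+ N.X n)
  (hq : ∀ n, Function.Surjective (q n))
  (hqk : ∀ n (c : C.X n), q n c = 0 ↔ ∃ c' : C.X n, c = t • c')
  (hqd : ∀ n m (c : C.X n), q m (C.d n m c) = N.d n m (q n c))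
  (u : ∀ n, C.X n →ₗ[S] I.X n) (hu : ∀ n c, t • u n c = j.f n c)
  (htC : ∀ n (c : C.X n), t • c = 0 → c = 0)
  (htI : ∀ n (w : I.X n), ∃ w', w = t • w')
  (e : ∀ n m : ℤ, n + 1 = m → (E.X n →+ I.X m))
  (he : ∀ n m h, Function.Injective (e n m h))
  (her : ∀ n m h (x : I.X m), t • x = 0 → ∃ y, e n m h y = x)
  (het : ∀ n m h (y : E.X n), t • e n m h y = 0)
  (hed : ∀ n n' m m' h h' (y : E.X n), n + 1 = n' →
    e n' m' h' (E.d n n' y) = - I.d m m' (e n m h y))
  (hv : ∀ n m h (c : C.X n), e n m h (v.f n (q n c)) = I.d n m (u n c) - u m (C.d n m c))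

include hq hqk hqd hu htC htI he her het hed hv

theorem quasiIso_of_data [QuasiIso j] : QuasiIso v := by
  have hd : ∀ (K : CochainComplex (ModuleCat.{u} S) ℤ) (a b c : ℤ) (x : K.X a), K.d b c (K.d a b x) = 0 :=
    fun K a b c x => DR39.d_apply_d K a b c x
  have hjd : ∀ (a b : ℤ) (x : C.X a), j.f b (C.d a b x) = I.d a b (j.f a x) := fun a b x =>
    DR39.f_apply_d j a b x
  refine ⟨fun n => DR39.quasiIsoAt_of_elements v n (fun z hz y hy => ?_) (fun x hx => ?_)⟩
  · obtain ⟨c, rfl⟩ := hq n z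
    obtain ⟨c', hc'⟩ := (hqk (n + 1) (C.d n (n + 1) c)).1 ((hqd n (n + 1) c).trans hz)
    have hdc' : C.d (n + 1) (n + 2) c' = 0 := htC _ _ (by rw [← map_smul, ← hc']; exact hd C _ _ _ _)
    have h1 : I.d n (n + 1) (u n c) - u (n + 1) (C.d n (n + 1) c) =
        - I.d n (n + 1) (e (n - 1) n (by omega) y) := by
      rw [← hv n (n + 1) rfl c, ← hed (n - 1) n n (n + 1) (by omega) rfl y (by omega)]
      exact congrArg _ hy.symm
    have h2 : j.f (n + 1) c' = I.d n (n + 1) (u n c + e (n - 1) n (by omega) y) := by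
      rw [← hu, ← map_smul, ← hc', map_add]
      linear_combination (norm := abel) (-1 : ℤ) • h1
    obtain ⟨a, ha⟩ := mem_range_of_quasiIso j (show n + 1 = n + 1 from rfl) (show n + 1 + 1 = n + 2 by omega)
      c' hdc' _ h2.symm
    have hc2 : C.d n (n + 1) (c - t • a) = 0 := by rw [map_sub, map_smul, ha, hc', sub_self]
    have hcyc : I.d n (n + 1) (u n (c - t • a) + e (n - 1) n (by omega) y) = 0 := by
      rw [map_sub, map_smul, hu, sub_add_eq_add_sub, map_sub, ← h2, ← hjd, ha, sub_self]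
    obtain ⟨a2, w, ha2, hw⟩ := exists_cycle_of_quasiIso j (show n - 1 + 1 = n by omega)
      (show n + 1 = n + 1 from rfl) _ hcyc
    have h3 : I.d (n - 1) n (t • w) = j.f n (c - t • a - t • a2) := by
      rw [map_smul, map_sub, map_smul, ← hu n (c - t • a)]
      linear_combination (norm := skip) congrArg (t • ·) hw
      simp only [smul_add, het]
      abel
    obtain ⟨s, hs⟩ := mem_range_of_quasiIso j (show n - 1 + 1 = n by omega) (show n + 1 = n + 1 from rfl)
      _ (by rw [map_sub, hc2, map_smul, ha2, smul_zero, sub_zero]) _ h3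
    refine ⟨q (n - 1) s, ?_⟩
    rw [← hqd, hs, map_sub, map_sub, (hqk n (t • a)).2 ⟨a, rfl⟩, (hqk n (t • a2)).2 ⟨a2, rfl⟩]
    simp
  · let i := e n (n + 1) rfl x
    have hi : I.d (n + 1) (n + 2) i = 0 := by
      have := hed n (n + 1) (n + 1) (n + 2) rfl (by omega) x rfl
      rw [show E.d n (n + 1) x = 0 from hx, map_zero, zero_eq_neg] at this
      exact this
    obtain ⟨a, y, ha, hay⟩ := exists_cycle_of_quasiIso j (show n + 1 = n + 1 from rfl)
      (show n + 1 + 1 = n + 2 by omega) i hi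
    have h1 : I.d n (n + 1) (-(t • y)) = j.f (n + 1) (t • a) := by
      have := congrArg (t • ·) hay
      simp only [smul_add, het, i] at this
      rw [map_neg, map_smul, map_smul]
      linear_combination (norm := abel) (-1 : ℤ) • this
    obtain ⟨c2, hc2⟩ := mem_range_of_quasiIso j (show n + 1 = n + 1 from rfl) (show n + 1 + 1 = n + 2 by omega)
      _ (by rw [map_smul, ha, smul_zero]) _ h1
    have hz : N.d n (n + 1) (q n c2) = 0 := by
      rw [← hqd, hc2]
      exact (hqk _ _).2 ⟨a, rfl⟩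
    let g := u n c2 + y
    have hev : I.d n (n + 1) g = i + e n (n + 1) rfl (v.f n (q n c2)) := by
      rw [hv, hc2, map_smul, hu, map_add, ← hay]
      abel
    obtain ⟨b, w, hb, hbw⟩ := exists_cycle_of_quasiIso j (show n - 1 + 1 = n by omega)
      (show n + 1 = n + 1 from rfl) (t • g) (by rw [map_smul, hev, smul_add, het, het, add_zero])
    obtain ⟨w', rfl⟩ := htI _ w
    let g2 := g - u n b - I.d (n - 1) n w'
    have hg2 : t • g2 = 0 := by
      rw [smul_sub, smul_sub, hu, ← map_smul, ← hbw]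
      abel
    obtain ⟨y', hy'⟩ := her (n - 1) n (by omega) g2 hg2
    refine ⟨q n (b - c2), by rw [map_sub, map_sub, hz, ← hqd, hb, map_zero, sub_zero], y', ?_⟩
    apply he n (n + 1) rfl
    have hb' : e n (n + 1) rfl (v.f n (q n b)) = I.d n (n + 1) (u n b) := by
      rw [hv, hb, map_zero, sub_zero]
    have key : e n (n + 1) rfl (E.d (n - 1) n y') =
        -(i + e n (n + 1) rfl (v.f n (q n c2)) - I.d n (n + 1) (u n b)) := by
      rw [hed (n - 1) n n (n + 1) (by omega) rfl y' (by omega), hy', map_sub, map_sub, hd, sub_zero, hev]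
    refine key.trans ?_
    rw [map_sub (q n)]
    change _ = e n (n + 1) rfl ((v.f n) (q n b - q n c2) - x)
    rw [map_sub (v.f n).hom, map_sub, map_sub, hb']
    abel

end Elements

variable {S B : Type u} [CommRing S] [CommRing B] (π : S →+* B) (hπ : Function.Surjective π)
  (t : S) (hker : RingHom.ker π = Ideal.span {t}) (ht : IsSMulRegular S t)

include hπ hker in
lemma exact_unit (X : ModuleCat.{u} S) :
    Function.Surjective ((ModuleCat.extendRestrictScalarsAdj.{u, u, u} π).unit.app X) ∧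
      ∀ c : X, (ModuleCat.extendRestrictScalarsAdj.{u, u, u} π).unit.app X c = 0 ↔ ∃ c', c = t • c' := by
  letI := π.toAlgebra
  let f : S →ₗ[S] S := LinearMap.mulLeft S t
  let g : S →ₗ[S] B := Algebra.linearMap S B
  have hex : Function.Exact f g := fun s => by
    change π s = 0 ↔ _
    rw [← RingHom.mem_ker, hker, Ideal.mem_span_singleton']
    exact ⟨fun ⟨a, ha⟩ => ⟨a, by simpa [f, mul_comm] using ha⟩, fun ⟨a, ha⟩ => ⟨a, by simpa [f, mul_comm] using ha⟩⟩
  have hex' := rTensor_exact X hex hπ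
  have hg : ∀ c : X, g.rTensor X ((TensorProduct.lid S X).symm c) = (1 : B) ⊗ₜ[S] c := fun c => by
    simp [g]
  refine ⟨fun z => ?_, fun c => ?_⟩
  · obtain ⟨w, hw⟩ := LinearMap.rTensor_surjective X (g := g) hπ z
    refine ⟨TensorProduct.lid S X w, ?_⟩
    change (1 : B) ⊗ₜ[S] _ = z
    rw [← hg, LinearEquiv.symm_apply_apply, hw]
  · change (1 : B) ⊗ₜ[S] c = 0 ↔ _
    rw [← hg, hex']
    constructor
    · rintro ⟨w, hw⟩
      refine ⟨TensorProduct.lid S X w, ?_⟩
      rw [← (TensorProduct.lid S X).apply_symm_apply c, ← hw]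
      clear hw
      induction w using TensorProduct.induction_on with
      | zero => simp
      | add a b ha hb => simp only [map_add, smul_add, ha, hb]
      | tmul a b => simp [f, mul_smul]
    · rintro ⟨c', rfl⟩
      exact ⟨(TensorProduct.lid S X).symm c', by simp [f, TensorProduct.smul_tmul']⟩

include hπ in
lemma coextend_apply_eq (M : ModuleCat.{u} S) (g : (ModuleCat.coextendScalars.{u, u, u} π).obj M) (s : S) :
    ModuleCat.CoextendScalars.equiv π M g (π s) = s • ModuleCat.CoextendScalars.equiv π M g (1 : B) := by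
  rw [← map_smul]
  congr 1
  exact (mul_one (π s)).symm

include hπ in
lemma counit_injective (M : ModuleCat.{u} S) :
    Function.Injective ((ModuleCat.restrictCoextendScalarsAdj.{u, u, u} π).counit.app M) := by
  intro g g' h
  refine ModuleCat.CoextendScalars.ext (LinearMap.ext fun b => ?_)
  obtain ⟨s, rfl⟩ := hπ b
  rw [coextend_apply_eq π hπ, coextend_apply_eq π hπ]
  exact congrArg (s • ·) h

include hπ hker in
lemma counit_range (M : ModuleCat.{u} S) (x : M) (hx : t • x = 0) :
    ∃ g : (ModuleCat.coextendScalars.{u, u, u} π).obj M,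
      (ModuleCat.restrictCoextendScalarsAdj.{u, u, u} π).counit.app M g = x := by
  have hwd : ∀ s s' : S, π s = π s' → s • x = s' • x := fun s s' h => by
    have : s - s' ∈ RingHom.ker π := by rw [RingHom.mem_ker, map_sub, h, sub_self]
    rw [hker, Ideal.mem_span_singleton'] at this
    obtain ⟨a, ha⟩ := this
    rw [← sub_eq_zero, ← sub_smul, ← ha, mul_smul, hx, smul_zero]
  let σ := Function.surjInv hπ
  have hσ : ∀ b, π (σ b) = b := Function.surjInv_eq hπ
  refine ⟨(ModuleCat.CoextendScalars.equiv π M).symm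
    { toFun := fun b : B => σ b • x
      map_add' := fun a b : B => (hwd _ (σ a + σ b) (by simp [hσ])).trans (add_smul _ _ _)
      map_smul' := fun r (b : B) => ?_ }, ?_⟩
  · change σ (π r * b) • x = r • σ b • x
    rw [smul_smul]
    exact hwd _ _ (by simp [hσ])
  · change σ (1 : B) • x = x
    exact (hwd _ 1 (by simp [hσ])).trans (one_smul _ _)

include hπ hker in
lemma counit_smul (M : ModuleCat.{u} S) (g : (ModuleCat.coextendScalars.{u, u, u} π).obj M) :
    t • (show M from (ModuleCat.restrictCoextendScalarsAdj.{u, u, u} π).counit.app M g) = 0 := by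
  change t • ModuleCat.CoextendScalars.equiv π M g (1 : B) = 0
  rw [← coextend_apply_eq π hπ]
  have : π t = 0 := by
    rw [← RingHom.mem_ker, hker]
    exact Ideal.mem_span_singleton_self t
  rw [this, map_zero]

include hπ hker ht in
/-- `RHom_S(B, M)[1] = M ⊗^L_S B` for `B = S/(t)` with `t` regular. -/
theorem step [DRing.HasLBaseChange π] (Rπ : Dual.D S ⥤ Dual.D B) (adj : DRing.restrictD π ⊣ Rπ)
    (M : Dual.D S) : Nonempty ((Rπ.obj M)⟦(1 : ℤ)⟧ ≅ (DRing.LBaseChange π).obj M) := by
  let Q := (DerivedCategory.Q : CochainComplex (ModuleCat.{u} S) ℤ ⥤ Dual.D S)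
  let C := DR39.SF.res (Q.objPreimage M)
  haveI : IsIso (Q.map (DR39.SF.aug (Q.objPreimage M))) :=
    (DerivedCategory.isIso_Q_map_iff_quasiIso (ModuleCat.{u} S) _).2 inferInstance
  let eM : Q.obj C ≅ M := asIso (Q.map (DR39.SF.aug _)) ≪≫ Q.objObjPreimageIso M
  obtain ⟨I, j, hI, hj, -, hIX⟩ := CohDer42.exists_kinjective_resolution C
  haveI := hI
  haveI := hj
  have htC : ∀ n (c : C.X n), t • c = 0 → c = 0 := fun n c hc => by
    haveI := DR39.SF.free_res (Q.objPreimage M) n
    let b := Module.Free.chooseBasis S (C.X n)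
    refine b.repr.injective (Finsupp.ext fun k => ht ?_)
    have := congrArg (fun x => b.repr x k) hc
    simpa using this
  have hdiv : ∀ n (w : I.X n), ∃ w', w = t • w' := fun n w => by
    haveI := hIX n
    let m : ModuleCat.of S S ⟶ ModuleCat.of S S := ModuleCat.ofHom (LinearMap.mulLeft S t)
    haveI : Mono m := (ModuleCat.mono_iff_injective m).2 ht
    let g : ModuleCat.of S S ⟶ I.X n := ModuleCat.ofHom (LinearMap.toSpanSingleton S _ w)
    refine ⟨Injective.factorThru g m (1 : S), ?_⟩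
    have h1 : Injective.factorThru g m (t * 1 : S) = (1 : S) • w :=
      congrArg (fun φ : ModuleCat.of S S ⟶ I.X n => φ (1 : S)) (Injective.comp_factorThru g m)
    rw [one_smul] at h1
    rw [← h1, ← map_smul]
    rfl
  have hu' : ∀ n, ∃ u : C.X n →ₗ[S] I.X n, ∀ c, t • u c = j.f n c := fun n => by
    haveI := hIX n
    let m : C.X n ⟶ C.X n := t • 𝟙 _
    haveI : Mono m := (ModuleCat.mono_iff_injective m).2 ((injective_iff_map_eq_zero _).2 (htC n))
    refine ⟨(Injective.factorThru (j.f n) m).hom, fun c => ?_⟩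
    rw [← map_smul]
    exact congrArg (fun φ : C.X n ⟶ I.X n => φ c) (Injective.comp_factorThru (j.f n) m)
  choose u hu using hu'
  let Fe := ModuleCat.extendScalars.{u, u, u} π
  let Fr := ModuleCat.restrictScalars.{u} π
  let Fc := ModuleCat.coextendScalars.{u, u, u} π
  let a₁ := ModuleCat.extendRestrictScalarsAdj.{u, u, u} π
  let a₂ := ModuleCat.restrictCoextendScalarsAdj.{u, u, u} π
  let N := (Fe.mapHomologicalComplex (ComplexShape.up ℤ)).obj C
  let E := ((Fc.mapHomologicalComplex (ComplexShape.up ℤ)).obj I)⟦(1 : ℤ)⟧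
  have hex : ∀ X : ModuleCat.{u} S, ∃ h : (t • 𝟙 X) ≫ a₁.unit.app X = 0,
      (ShortComplex.mk _ _ h).Exact ∧ Epi (a₁.unit.app X) := fun X => by
    obtain ⟨hs, hk⟩ := exact_unit π hπ t hker X
    refine ⟨ModuleCat.hom_ext (LinearMap.ext fun c => (hk _).2 ⟨c, rfl⟩), ?_, (ModuleCat.epi_iff_surjective _).2 hs⟩
    rw [ShortComplex.moduleCat_exact_iff]
    intro c hc
    obtain ⟨c', rfl⟩ := (hk c).1 hc
    exact ⟨c', rfl⟩
  choose hw hex hepi using hex
  let v₀ : ∀ n, C.X n ⟶ I.X (n + 1) := fun n =>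
    ModuleCat.ofHom (u n) ≫ I.d n (n + 1) - C.d n (n + 1) ≫ ModuleCat.ofHom (u (n + 1))
  have hv₀ : ∀ n, (t • 𝟙 (C.X n)) ≫ v₀ n = 0 := fun n => by
    refine ModuleCat.hom_ext (LinearMap.ext fun c => ?_)
    change v₀ n (t • c) = 0
    rw [map_smul]
    change t • (I.d n (n + 1) (u n c) - u (n + 1) (C.d n (n + 1) c)) = 0
    rw [smul_sub, ← map_smul, hu, hu, DR39.f_apply_d, sub_self]
  haveI : ∀ n, Epi (ShortComplex.mk _ _ (hw (C.X n))).g := fun n => hepi _
  let vb : ∀ n, Fr.obj (N.X n) ⟶ I.X (n + 1) := fun n => (hex (C.X n)).gIsCokernel.desc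
    (CokernelCofork.ofπ (v₀ n) (hv₀ n))
  have hvb : ∀ n, a₁.unit.app (C.X n) ≫ vb n = v₀ n := fun n =>
    (hex (C.X n)).gIsCokernel.fac _ WalkingParallelPair.one
  let e : ∀ n m : ℤ, n + 1 = m → (E.X n →+ I.X m) := fun n m h =>
    (show Fr.obj (Fc.obj (I.X (n + 1))) ⟶ I.X m from
      a₂.counit.app (I.X (n + 1)) ≫ (HomologicalComplex.XIsoOfEq I h).hom).hom.toAddMonoidHom
  have he : ∀ n m h, Function.Injective (e n m h) := fun n m h => by
    subst h
    exact counit_injective π hπ (I.X (n + 1))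
  let vf : ∀ n, N.X n ⟶ E.X n := fun n => a₂.homEquiv _ _ (vb n)
  have hev : ∀ n m h (c : C.X n), e n m h (vf n (a₁.unit.app (C.X n) c)) = I.d n m (u n c) - u m (C.d n m c) :=
    fun n m h c => by
      subst h
      have h1 : Fr.map (vf n) ≫ a₂.counit.app (I.X (n + 1)) = vb n :=
        (Adjunction.homEquiv_counit _ _ _ _).symm.trans ((a₂.homEquiv _ _).symm_apply_apply (vb n))
      exact (congrArg (fun φ : Fr.obj (N.X n) ⟶ I.X (n + 1) => φ (a₁.unit.app (C.X n) c)) h1).trans
        (congrArg (fun φ : C.X n ⟶ I.X (n + 1) => φ c) (hvb n))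
  have hed : ∀ n n' m m' h h' (y : E.X n), n + 1 = n' →
      e n' m' h' (E.d n n' y) = - I.d m m' (e n m h y) := fun n n' m m' h h' y hn => by
    subst h h' hn
    have hd' : E.d n (n + 1) y =
        -(((Fc.mapHomologicalComplex (ComplexShape.up ℤ)).obj I).d (n + 1) (n + 1 + 1) y) := by
      simp [E]
    rw [hd', map_neg]
    rfl
  have hqd : ∀ n m (c : C.X n),
      a₁.unit.app (C.X m) (C.d n m c) = N.d n m (a₁.unit.app (C.X n) c) := fun n m c =>
    congrArg (fun φ : C.X n ⟶ Fr.obj (N.X m) => φ c) (a₁.unit.naturality (C.d n m))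
  let v : N ⟶ E :=
    { f := vf
      comm' := fun n m hnm => by
        change n + 1 = m at hnm
        subst hnm
        refine ModuleCat.hom_ext (LinearMap.ext fun z => ?_)
        obtain ⟨c, rfl⟩ := (exact_unit π hπ t hker (C.X n)).1 z
        refine he (n + 1) (n + 1 + 1) rfl ?_
        change e (n + 1) (n + 1 + 1) rfl (E.d n (n + 1) (vf n (a₁.unit.app (C.X n) c))) =
          e (n + 1) (n + 1 + 1) rfl (vf (n + 1) (N.d n (n + 1) (a₁.unit.app (C.X n) c)))
        rw [hed n (n + 1) (n + 1) (n + 1 + 1) rfl rfl _ rfl, hev, ← hqd, hev]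
        simp [DR39.d_apply_d] }
  haveI : QuasiIso v := quasiIso_of_data t j v (fun n => (a₁.unit.app (C.X n)).hom.toAddMonoidHom)
    (fun n => (exact_unit π hπ t hker (C.X n)).1) (fun n => (exact_unit π hπ t hker (C.X n)).2)
    hqd u hu htC hdiv e he
    (fun n m h x hx => by subst h; exact counit_range π hπ t hker (I.X (n + 1)) x hx)
    (fun n m h y => by subst h; exact counit_smul π hπ t hker (I.X (n + 1)) y)
    hed hev
  haveI : IsIso (DerivedCategory.Q.map v) := (DerivedCategory.isIso_Q_map_iff_quasiIso (ModuleCat.{u} B) v).2 inferInstance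
  haveI : IsIso (Q.map j) := (DerivedCategory.isIso_Q_map_iff_quasiIso (ModuleCat.{u} S) j).2 inferInstance
  exact ⟨(shiftFunctor _ (1 : ℤ)).mapIso
      ((adj.rightAdjointUniq (rightDAdj π)).app M ≪≫ (rightD π).mapIso (eM.symm ≪≫ asIso (Q.map j)) ≪≫
        rightDObjIso π I hI) ≪≫
    ((DerivedCategory.Q.commShiftIso (1 : ℤ)).app ((Fc.mapHomologicalComplex (ComplexShape.up ℤ)).obj I)).symm ≪≫
    (asIso (DerivedCategory.Q.map v)).symm ≪≫
    (DR39.LBaseChangeIso π C DR39.isKFlat_of_isKProjective).symm ≪≫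
    (DRing.LBaseChange π).mapIso eM⟩

end Groth.Agent.Shriek42
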