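import Groth.Agent.Shriek42.Calc
import Mathlib.RingTheory.AdjoinRoot
import Mathlib.RingTheory.IntegralClosure.IsIntegral.Basic
import Mathlib.Algebra.MvPolynomial.Equiv

/-!
# Quotients of polynomial rings by monic polynomials in the separate variables
-/

set_option autoImplicit false
set_option linter.unusedSectionVars false
set_option linter.style.haveILetI false
set_option backward.isDefEq.respectTransparency false

universe u

open CategoryTheory Polynomial

namespace Groth.Agent.Shriek42

attribute [local instance] HasDerivedCategory.standard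
attribute [local instance] hasLB

theorem frob_adjoinRoot (R : Type u) [CommRing R] (p : R[X]) (hp : p.Monic) :
    Frob (algebraMap R (AdjoinRoot p)) := by
  let d := p.natDegree
  let T : AdjoinRoot p →ₗ[R] R := (Polynomial.lcoeff R (d - 1)).comp (AdjoinRoot.modByMonicHom hp)
  have hT : ∀ g : R[X], T (AdjoinRoot.mk p g) = (g %ₘ p).coeff (d - 1) := fun g => by simp [T]
  have hlow : ∀ g : R[X], g.natDegree < d → g %ₘ p = g := fun g hg => by
    nontriviality R
    rw [modByMonic_eq_self_iff hp, degree_eq_natDegree hp.ne_zero]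
    exact lt_of_le_of_lt degree_le_natDegree (by exact_mod_cast hg)
  have hpow : ∀ m, m < d → T (AdjoinRoot.root p ^ m) = if m = d - 1 then 1 else 0 := fun m hm => by
    nontriviality R
    rw [← AdjoinRoot.mk_X, ← map_pow, hT, hlow _ (by simpa using hm), coeff_X_pow]
    exact if_congr eq_comm rfl rfl
  have hex : ∀ (f : ℕ → R) (j : ℕ), j ≤ d →
      ∃ b, ∀ l < j, T (AdjoinRoot.root p ^ l * b) = f l := by
    intro f j
    induction j with
    | zero => exact fun _ => ⟨0, fun l hl => absurd hl (Nat.not_lt_zero l)⟩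
    | succ j ih =>
      intro hj
      obtain ⟨b, hb⟩ := ih (by omega)
      refine ⟨b + (f j - T (AdjoinRoot.root p ^ j * b)) • AdjoinRoot.root p ^ (d - 1 - j), fun l hl => ?_⟩
      rw [mul_add, map_add, mul_smul_comm, map_smul, ← pow_add, hpow _ (by omega)]
      rcases Nat.lt_succ_iff_lt_or_eq.1 hl with hl | rfl
      · rw [if_neg (by omega), smul_zero, add_zero, hb l hl]
      · rw [if_pos (by omega), smul_eq_mul, mul_one, add_sub_cancel]
  choose b hb using fun k : Fin d => hex (fun l => if l = (k : ℕ) then 1 else 0) d le_rfl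
  refine frob_of_dual (algebraMap R (AdjoinRoot p)) T.toAddMonoidHom (fun r y => ?_)
    (fun l : Fin d => AdjoinRoot.root p ^ (l : ℕ)) b (fun l k => ?_) (fun y hy => ?_)
  · change T (algebraMap R _ r * y) = r * T y
    rw [← Algebra.smul_def, map_smul, smul_eq_mul]
  · change T _ = _
    rw [hb k l l.2]
    exact if_congr (Fin.val_inj) rfl rfl
  · obtain ⟨g, rfl⟩ := AdjoinRoot.mk_surjective y
    have e : AdjoinRoot.mk p g = AdjoinRoot.mk p (g %ₘ p) := by
      rw [AdjoinRoot.mk_eq_mk]
      exact ⟨g /ₘ p, eq_sub_of_add_eq' (modByMonic_add_div g p) ▸ by ring⟩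
    rw [e]
    by_contra hne
    have hr0 : g %ₘ p ≠ 0 := fun h => hne (by rw [h, map_zero])
    haveI : Nontrivial R := Polynomial.nontrivial_iff.1 ⟨_, _, hr0⟩
    have hd : (g %ₘ p).natDegree < d := natDegree_modByMonic_lt g hp (fun h => by
      subst h
      exact hne (by rw [modByMonic_one, map_zero]))
    have h := hy ⟨d - 1 - (g %ₘ p).natDegree, by omega⟩
    change T (AdjoinRoot.root p ^ (d - 1 - (g %ₘ p).natDegree) * AdjoinRoot.mk p g) = 0 at h
    rw [e, ← AdjoinRoot.mk_X, ← map_pow, ← map_mul, hT, hlow _ (natDegree_mul_le.trans_lt (by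
      rw [natDegree_X_pow]; omega))] at h
    have h' := coeff_X_pow_mul (g %ₘ p) (d - 1 - (g %ₘ p).natDegree) (g %ₘ p).natDegree
    rw [show (g %ₘ p).natDegree + (d - 1 - (g %ₘ p).natDegree) = d - 1 by omega, h] at h'
    exact hr0 (leadingCoeff_eq_zero.1 h'.symm)

/-- A quotient of `R[x₁, …, xₙ]` by monic polynomials, one in each variable. -/
theorem tower (n : ℕ) : ∀ (R : Type u) [CommRing R] (p : Fin n → R[X]), (∀ j, (p j).Monic) →
    ∃ (B : Type u) (_ : CommRing B) (_ : Algebra R B) (π : MvPolynomial (Fin n) R →ₐ[R] B),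
      Function.Surjective π ∧ Sh (algebraMap R (MvPolynomial (Fin n) R)) π.toRingHom n ∧
      Frob (algebraMap R B) ∧ (∀ j, aeval (π (MvPolynomial.X j)) (p j) = 0) ∧
      ∀ (A : Type u) [CommRing A] [Algebra R A] (a : Fin n → A), (∀ j, aeval (a j) (p j) = 0) →
        ∃ ρ : B →ₐ[R] A, ∀ j, ρ (π (MvPolynomial.X j)) = a j := by
  induction n with
  | zero =>
    intro R _ p _
    let e := MvPolynomial.isEmptyAlgEquiv R (Fin 0)
    refine ⟨R, inferInstance, inferInstance, e.toAlgHom, e.surjective,
      Sh.of_inverse _ (ψ := e.symm.toAlgHom.toRingHom) (RingHom.ext e.symm_apply_apply)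
        (RingHom.ext e.apply_symm_apply),
      frob_of_inverse (ψ := RingHom.id R) rfl rfl, fun j => j.elim0,
      fun A _ _ a _ => ⟨Algebra.ofId R A, fun j => j.elim0⟩⟩
  | succ n ih =>
    intro R _ p hp
    let R' := MvPolynomial (Fin n) R
    let p₀ := p 0
    let B₁ := AdjoinRoot p₀
    let P : R'[X] := p₀.map (algebraMap R R')
    let Qr := MvPolynomial (Fin n) B₁
    have hP : P.Monic := (hp 0).map _
    let r₁ : Qr := MvPolynomial.C (AdjoinRoot.root p₀)
    let m₁ : R' →ₐ[R] Qr := MvPolynomial.aeval MvPolynomial.X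
    let π₁ : R'[X] →+* Qr := eval₂RingHom m₁.toRingHom r₁
    have hr₁ : eval₂ m₁.toRingHom r₁ P = 0 := by
      have e : m₁.toRingHom.comp (algebraMap R R') =
          (MvPolynomial.C : B₁ →+* Qr).comp (AdjoinRoot.of p₀) :=
        RingHom.ext fun r => by simp [m₁, R', Qr, B₁, MvPolynomial.algebraMap_apply]
      rw [eval₂_map, e, ← hom_eval₂]
      exact (congrArg MvPolynomial.C (AdjoinRoot.eval₂_root p₀)).trans (map_zero _)
    let σ : AdjoinRoot P →+* Qr := AdjoinRoot.lift m₁.toRingHom r₁ hr₁
    have hroot : eval₂ ((AdjoinRoot.of P).comp (algebraMap R R')) (AdjoinRoot.root P) p₀ = 0 := by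
      rw [← eval₂_map]
      exact AdjoinRoot.eval₂_root P
    let τ : Qr →+* AdjoinRoot P := MvPolynomial.eval₂Hom
      (AdjoinRoot.lift ((AdjoinRoot.of P).comp (algebraMap R R')) (AdjoinRoot.root P) hroot)
      (fun j => AdjoinRoot.of P (MvPolynomial.X j))
    have hm₁X : ∀ j : Fin n, m₁.toRingHom (MvPolynomial.X j) = MvPolynomial.X j := fun j =>
      MvPolynomial.aeval_X _ j
    have hσof : ∀ f : R', σ (AdjoinRoot.of P f) = m₁.toRingHom f := fun f => AdjoinRoot.lift_of hr₁
    have hσroot : σ (AdjoinRoot.root P) = r₁ := AdjoinRoot.lift_root hr₁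
    have hτX : ∀ j : Fin n, τ (MvPolynomial.X j) = AdjoinRoot.of P (MvPolynomial.X j) := fun j =>
      MvPolynomial.eval₂Hom_X' _ _ j
    have hτC : ∀ c : B₁, τ (MvPolynomial.C c) =
        AdjoinRoot.lift ((AdjoinRoot.of P).comp (algebraMap R R')) (AdjoinRoot.root P) hroot c := fun c =>
      MvPolynomial.eval₂Hom_C _ _ c
    have hτσ : τ.comp σ = RingHom.id _ := by
      refine AdjoinRoot.ringHom_ext ?_ ?_
      · refine MvPolynomial.ringHom_ext (fun r => ?_) (fun j => ?_)
        · simp [σ, τ, m₁, R', Qr, B₁, MvPolynomial.algebraMap_apply]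
        · change τ (σ (AdjoinRoot.of P (MvPolynomial.X j))) = _
          rw [hσof, hm₁X, hτX]
          rfl
      · change τ (σ (AdjoinRoot.root P)) = _
        rw [hσroot, hτC, AdjoinRoot.lift_root]
        rfl
    have hσ : Function.Injective σ := fun a b h => by
      simpa using (RingHom.congr_fun hτσ a).symm.trans ((congrArg τ h).trans (RingHom.congr_fun hτσ b))
    have hστ : σ.comp τ = RingHom.id _ := by
      refine MvPolynomial.ringHom_ext (fun c => ?_) (fun j => ?_)
      · obtain ⟨g, rfl⟩ := AdjoinRoot.mk_surjective c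
        induction g using Polynomial.induction_on with
        | C r => simp [σ, τ, m₁, R', Qr, B₁, MvPolynomial.algebraMap_apply]
        | add f g hf hg => simp only [map_add, hf, hg]
        | monomial k r _ => simp [σ, τ, m₁, r₁, R', Qr, B₁, MvPolynomial.algebraMap_apply]
      · change σ (τ (MvPolynomial.X j)) = _
        rw [hτX, hσof, hm₁X]
        rfl
    have hπ₁ : ∀ g, π₁ g = σ (AdjoinRoot.mk P g) := fun g => (AdjoinRoot.lift_mk hr₁ g).symm
    have hsurj : Function.Surjective π₁ := fun z => by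
      obtain ⟨g, hg⟩ := AdjoinRoot.mk_surjective (τ z)
      exact ⟨g, by rw [hπ₁, hg]; exact RingHom.congr_fun hστ z⟩
    have hker : RingHom.ker π₁ = Ideal.span {P} := by
      ext g
      rw [RingHom.mem_ker, hπ₁, map_eq_zero_iff σ hσ, AdjoinRoot.mk_eq_zero, Ideal.mem_span_singleton]
    have hreg : IsSMulRegular R'[X] P := fun a b h => hP.isRegular.left h
    let iT : R →+* R'[X] := (Polynomial.C : R' →+* R'[X]).comp (algebraMap R R')
    have h₁ : Sh iT π₁ 1 := Sh.of_regular iT hsurj P hker hreg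
    obtain ⟨B, cB, aB, π₂, hs₂, hsh₂, hfr₂, hroot₂, hup₂⟩ :=
      ih B₁ (fun j => (p j.succ).map (algebraMap R B₁)) (fun j => (hp _).map _)
    letI algRB : Algebra R B := ((algebraMap B₁ B).comp (algebraMap R B₁)).toAlgebra
    haveI : IsScalarTower R B₁ B := IsScalarTower.of_algebraMap_eq' rfl
    let fse := MvPolynomial.finSuccEquiv R n
    have hfX0 : π₁ (fse (MvPolynomial.X 0)) = r₁ := by
      rw [show fse (MvPolynomial.X 0) = Polynomial.X from MvPolynomial.finSuccEquiv_X_zero]
      exact eval₂_X _ _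
    have hfXs : ∀ j : Fin n, π₁ (fse (MvPolynomial.X j.succ)) = MvPolynomial.X j := fun j => by
      rw [show fse (MvPolynomial.X j.succ) = Polynomial.C (MvPolynomial.X j) from
        MvPolynomial.finSuccEquiv_X_succ]
      exact (eval₂_C _ _).trans (hm₁X j)
    have hi : π₁.comp iT = (algebraMap B₁ Qr).comp (algebraMap R B₁) := RingHom.ext fun r => by
      simp [π₁, iT, m₁, R', Qr, B₁, MvPolynomial.algebraMap_apply]
    let π : MvPolynomial (Fin (n + 1)) R →ₐ[R] B :=
      { toRingHom := (π₂.toRingHom.comp π₁).comp fse.toAlgHom.toRingHom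
        commutes' := fun r => by
          change π₂ (π₁ (fse (algebraMap R _ r))) = algebraMap B₁ B (algebraMap R B₁ r)
          rw [fse.commutes]
          rw [show π₁ (algebraMap R R'[X] r) = algebraMap B₁ Qr (algebraMap R B₁ r) from RingHom.congr_fun hi r]
          exact π₂.commutes _ }
    refine ⟨B, cB, algRB, π, hs₂.comp (hsurj.comp fse.surjective), ?_, ?_, ?_, ?_⟩
    · have h₁₂ : Sh iT (π₂.toRingHom.comp π₁) (1 + n) :=
        h₁.comp ((hsh₂.precomp (algebraMap R B₁)).congr hi.symm rfl rfl)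
      exact ((Sh.of_inverse _ (π := fse.toAlgHom.toRingHom) (ψ := fse.symm.toAlgHom.toRingHom)
        (RingHom.ext fse.symm_apply_apply) (RingHom.ext fse.apply_symm_apply)).comp
          (h₁₂.congr (RingHom.ext fun r => (fse.commutes r).symm) rfl rfl)).congr rfl rfl (by omega)
    · exact (frob_adjoinRoot R p₀ (hp 0)).comp hfr₂
    · intro j
      refine Fin.cases ?_ (fun j => ?_) j
      · change aeval (π₂ (π₁ (fse (MvPolynomial.X 0)))) (p 0) = 0
        rw [hfX0, show π₂ r₁ = algebraMap B₁ B (AdjoinRoot.root p₀) from π₂.commutes _,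
          aeval_algebraMap_apply]
        exact (congrArg (algebraMap B₁ B) (by rw [AdjoinRoot.aeval_eq]; exact AdjoinRoot.mk_self)).trans (map_zero _)
      · change aeval (π₂ (π₁ (fse (MvPolynomial.X j.succ)))) (p j.succ) = 0
        rw [hfXs, ← aeval_map_algebraMap B₁]
        exact hroot₂ j
    · intro A _ _ a ha
      let g : B₁ →ₐ[R] A := AdjoinRoot.liftAlgHom p₀ (Algebra.ofId R A) (a 0) (ha 0)
      letI : Algebra B₁ A := g.toRingHom.toAlgebra
      haveI : IsScalarTower R B₁ A := IsScalarTower.of_algebraMap_eq' (RingHom.ext fun r => (g.commutes r).symm)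
      obtain ⟨ρ, hρ⟩ := hup₂ A (fun j => a j.succ) (fun j => by
        rw [aeval_map_algebraMap]; exact ha j.succ)
      refine ⟨ρ.restrictScalars R, fun j => ?_⟩
      refine Fin.cases ?_ (fun j => ?_) j
      · change ρ (π₂ (π₁ (fse (MvPolynomial.X 0)))) = a 0
        rw [hfX0, show π₂ r₁ = algebraMap B₁ B (AdjoinRoot.root p₀) from π₂.commutes _, ρ.commutes]
        exact AdjoinRoot.liftAlgHom_root p₀ _ _ _
      · change ρ (π₂ (π₁ (fse (MvPolynomial.X j.succ)))) = a j.succ
        rw [hfXs]
        exact hρ j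

end Groth.Agent.Shriek42
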